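import Cfsg.Prelude.Def_CharExt
import Cfsg.Agent.Lib.Blocks.PrincipalNilpotent
import Cfsg.Agent.Lib.CharCorr.NormalSylowBase
import Cfsg.Agent.Lib.Characters.ExtensionUnique
import Cfsg.Agent.Lib.Characters.Ramified
import Cfsg.Agent.Lib.BlockCover.Defect

/-!
# Characters of `p'`-degree and `p'`-determinantal order count the residual modulo `p`
-/

set_option autoImplicit false
set_option linter.unusedSectionVars false
set_option linter.style.haveILetI false
open Cfsg CfsgLib.Characters CfsgLib.CharCorr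

namespace CfsgLib.CharDeg

universe u

variable {G : Type u} [Group G] [Finite G] {p : ℕ} [hp : Fact p.Prime]

/-- The determinant of an irreducible character is a linear character. -/
theorem exists_detHom (χ : IrrCharacter G) :
    ∃ f : G →* ℂˣ, detChar (χ : G → ℂ) = fun g => (f g : ℂ) := by
  obtain ⟨d, ρ, hρ, hc⟩ := χ.2
  haveI := hρ
  refine ⟨(LinearMap.det.comp ρ).toHomUnits, ?_⟩
  rw [← hc, CfsgLib.CharExtension.detChar_eq ρ]
  rfl

/-- The determinant of an irreducible restriction. -/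
theorem detChar_res {N : Subgroup G} {χ : G → ℂ} {θ : N → ℂ} (hχ : IsIrrCharacter G χ)
    (hθ : IsIrrCharacter N θ) (h : ∀ n : N, χ n = θ n) (n : N) :
    detChar χ (n : G) = detChar θ n := by
  obtain ⟨m, σ, hσ, rfl⟩ := hχ
  obtain ⟨d, ρ, hρ, rfl⟩ := hθ
  haveI := hσ
  haveI := hρ
  rw [CfsgLib.CharExtension.detChar_eq, CfsgLib.CharExtension.detChar_eq]
  exact CfsgLib.CharExtension.det_restrict ρ σ h n

/-- A character with the degree of a constituent is that constituent. -/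
theorem eq_of_degree_eq {H : Type u} [Group H] [Fintype H] {f : H → ℂ} (hf : IsCharacter H f)
    (θ : IrrCharacter H) (h : classInner f (θ : H → ℂ) ≠ 0) (hd : f 1 = (θ : H → ℂ) 1) :
    f = (θ : H → ℂ) := by
  classical
  obtain ⟨m, hm, hsum⟩ := CfsgLib.Clifford.exists_mult hf
  have h1 := congrFun hsum 1
  simp only [Finset.sum_apply, Pi.smul_apply, smul_eq_mul, hd, irr_one_eq_charDegree] at h1
  have h2 : charDegree (θ : H → ℂ) = ∑ ψ : IrrCharacter H, m ψ * charDegree (ψ : H → ℂ) := by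
    exact_mod_cast h1
  have hθ0 : 1 ≤ m θ := Nat.one_le_iff_ne_zero.2 fun h0 => h (by rw [hm, h0, Nat.cast_zero])
  rw [← Finset.add_sum_erase _ _ (Finset.mem_univ θ)] at h2
  have hpos : 0 < charDegree (θ : H → ℂ) := Nat.pos_of_ne_zero (CfsgLib.BlockCover.charDegree_ne_zero θ)
  have h3 : charDegree (θ : H → ℂ) ≤ m θ * charDegree (θ : H → ℂ) := Nat.le_mul_of_pos_left _ hθ0
  have h4 : ∀ ψ ∈ Finset.univ.erase θ, m ψ = 0 := fun ψ hψ => by
    have h5 := (Finset.sum_eq_zero_iff).1 (show ∑ ψ ∈ Finset.univ.erase θ,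
      m ψ * charDegree (ψ : H → ℂ) = 0 by omega) ψ hψ
    exact (mul_eq_zero.1 h5).resolve_right (CfsgLib.BlockCover.charDegree_ne_zero ψ)
  have h6 : m θ = 1 := by
    rw [Finset.sum_eq_zero fun ψ hψ => by rw [h4 ψ hψ, zero_mul], add_zero] at h2
    exact ((Nat.mul_eq_right hpos.ne').1 h2.symm)
  rw [hsum, Finset.sum_eq_single θ (fun ψ _ hψ => by
    rw [h4 ψ (Finset.mem_erase.2 ⟨hψ, Finset.mem_univ _⟩), Nat.cast_zero, zero_smul])
    (fun h' => absurd (Finset.mem_univ _) h'), h6, Nat.cast_one, one_smul]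

/-- The sum over a set of characters. -/
theorem sum_sq_congr [Fintype G] :
    (Nat.card (Cfsg.pResidual p G) : ℤ) ≡ (∑ᶠ χ ∈ {χ : IrrCharacter G |
      ¬ p ∣ charDegree (χ : G → ℂ) ∧ ¬ p ∣ detOrder (χ : G → ℂ)},
        (charDegree (χ : G → ℂ) : ℤ) ^ 2) [ZMOD p] := by
  classical
  haveI hNn : (Cfsg.pResidual p G).Normal := CfsgLib.Transfer.pResidual_normal
  set N := Cfsg.pResidual p G with hNdef
  haveI := Fintype.ofFinite N
  obtain ⟨a, ha⟩ := CfsgLib.Transfer.pResidual_index_eq_pow (G := G) (p := p)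
  rw [← hNdef] at ha
  obtain ⟨P⟩ : Nonempty (Sylow p G) := inferInstance
  have hPN : (P : Subgroup G) ⊔ N = ⊤ := CfsgLib.Transfer.sylow_sup_eq_top P N
    (CfsgLib.Transfer.isPGroup_quotient_of_pResidual_le N le_rfl)
  set U := {χ : IrrCharacter G | ¬ p ∣ charDegree (χ : G → ℂ) ∧ ¬ p ∣ detOrder (χ : G → ℂ)} with hU
  let act : (P : Subgroup G) →* MulAut N := MulAut.conjNormal.comp (P : Subgroup G).subtype
  have hinv : ∀ θ : IrrCharacter N, Inv act θ ↔
      ∀ (g : G) (n : N), (θ : N → ℂ) ⟨g * n * g⁻¹, hNn.conj_mem n n.2 g⟩ = (θ : N → ℂ) n := by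
    intro θ
    refine ⟨fun h g n => ?_, fun h s n => ?_⟩
    · have hg : g ∈ (P : Subgroup G) ⊔ N := hPN ▸ Subgroup.mem_top g
      obtain ⟨x, hx, m, hm, rfl⟩ := Subgroup.mem_sup_of_normal_right.1 hg
      have h1 := h ⟨x, hx⟩ (⟨m, hm⟩ * n * ⟨m, hm⟩⁻¹)
      rw [irr_isClassFunction θ n ⟨m, hm⟩] at h1
      rw [← h1]
      refine congrArg _ (Subtype.ext ?_)
      show x * m * n * (x * m)⁻¹ = x * (m * n * m⁻¹) * x⁻¹
      group
    · exact (congrArg _ (Subtype.ext rfl)).trans (h (s : G) n)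
  -- the restriction
  have hres : ∀ χ ∈ U, IsIrrCharacter N (fun n : N => (χ : G → ℂ) n) := by
    intro χ hχ
    obtain ⟨θ, hθ⟩ : ∃ θ : IrrCharacter N,
        classInner (fun n : N => (χ : G → ℂ) n) (θ : N → ℂ) ≠ 0 := by
      obtain ⟨θ, hθ⟩ := CfsgLib.CharCorrQ.exists_mult_ne_zero N.subtype χ
      exact ⟨θ, by rw [show (fun n : N => (χ : G → ℂ) n) = (χ : G → ℂ) ∘ N.subtype from rfl,
        mult_spec]; exact_mod_cast hθ⟩
    obtain ⟨k, hk, hkd⟩ := CfsgLib.Ramified.degree_ratio_dvd_index N χ.2 θ.2 hθ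
    rw [irr_one_eq_charDegree, irr_one_eq_charDegree, ← Nat.cast_mul, Nat.cast_inj] at hk
    have hk1 : k = 1 := by
      obtain ⟨i, -, rfl⟩ := (Nat.dvd_prime_pow hp.out).1 (ha ▸ hkd)
      rcases i with _ | i
      · rfl
      · exact absurd (hk ▸ dvd_mul_of_dvd_left (dvd_pow_self p i.succ_ne_zero) _) hχ.1
    rw [hk1, one_mul] at hk
    convert θ.2 using 1
    have hc : IsCharacter N (fun n : N => (χ : G → ℂ) n) :=
      CfsgLib.Clifford.isCharacter_subtype (irr_isCharacter χ) N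
    refine CfsgLib.CharDeg.eq_of_degree_eq hc θ hθ ?_
    show (χ : G → ℂ) ((1 : N) : G) = _
    rw [OneMemClass.coe_one, irr_one_eq_charDegree, irr_one_eq_charDegree, hk]
  let Φ : IrrCharacter G → IrrCharacter N := fun χ =>
    if h : IsIrrCharacter N (fun n : N => (χ : G → ℂ) n) then ⟨_, h⟩ else principalIrr N
  have hΦ : ∀ χ ∈ U, ∀ n : N, (Φ χ : N → ℂ) n = (χ : G → ℂ) n := fun χ hχ n => by
    simp only [Φ, dif_pos (hres χ hχ)]
  have hdeg : ∀ χ ∈ U, charDegree (Φ χ : N → ℂ) = charDegree (χ : G → ℂ) := fun χ hχ => by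
    simp [charDegree, hΦ χ hχ 1]
  set F : Finset (IrrCharacter N) :=
    Finset.univ.filter fun θ => Inv act θ ∧ ¬ p ∣ charDegree (θ : N → ℂ) with hF
  have hmain : ∑ χ ∈ Finset.univ.filter (· ∈ U), (charDegree (χ : G → ℂ) : ℤ) ^ 2 =
      ∑ θ ∈ F, (charDegree (θ : N → ℂ) : ℤ) ^ 2 := by
    refine Finset.sum_bij (fun χ _ => Φ χ) ?_ ?_ ?_ fun χ hχ => by
      rw [hdeg χ (Finset.mem_filter.1 hχ).2]
    · intro χ hχ
      replace hχ := (Finset.mem_filter.1 hχ).2
      refine Finset.mem_filter.2 ⟨Finset.mem_univ _, (hinv _).2 fun g n => ?_, by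
        rw [hdeg χ hχ]; exact hχ.1⟩
      rw [hΦ χ hχ, hΦ χ hχ]
      exact irr_isClassFunction χ (n : G) g
    · intro χ hχ χ' hχ' he
      replace hχ := (Finset.mem_filter.1 hχ).2
      replace hχ' := (Finset.mem_filter.1 hχ').2
      have he' : ∀ n : N, (χ : G → ℂ) n = (χ' : G → ℂ) n := fun n => by
        rw [← hΦ χ hχ, ← hΦ χ' hχ', he]
      obtain ⟨f, hf⟩ := exists_detHom χ
      obtain ⟨f', hf'⟩ := exists_detHom χ'
      have ho : ¬ p ∣ orderOf f := by
        rw [← CfsgLib.LinearExt.orderOf_coeUnitsFun f, ← hf]; exact hχ.2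
      have ho' : ¬ p ∣ orderOf f' := by
        rw [← CfsgLib.LinearExt.orderOf_coeUnitsFun f', ← hf']; exact hχ'.2
      have hθi := hres χ hχ
      have hfN : ∀ n : N, (f n : ℂ) = detChar (fun n : N => (χ : G → ℂ) n) n := fun n => by
        rw [← detChar_res χ.2 hθi (fun _ => rfl) n, hf]
      have hfN' : ∀ n : N, (f' n : ℂ) = detChar (fun n : N => (χ : G → ℂ) n) n := fun n => by
        rw [← detChar_res χ'.2 hθi (fun n => (he' n).symm) n, hf']
      have hff : f = f' := MonoidHom.ext fun g => by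
        have h1 : (f g * (f' g)⁻¹) ^ N.index = 1 := by
          rw [mul_pow, inv_pow, ← map_pow, ← map_pow, mul_inv_eq_one]
          exact Units.ext ((hfN ⟨_, N.pow_index_mem g⟩).trans (hfN' ⟨_, N.pow_index_mem g⟩).symm)
        have h2 : (f g * (f' g)⁻¹) ^ (orderOf f * orderOf f') = 1 := by
          rw [mul_pow, inv_pow, pow_mul, ← MonoidHom.pow_apply f, pow_orderOf_eq_one,
            MonoidHom.one_apply, one_pow, one_mul, mul_comm, pow_mul, ← MonoidHom.pow_apply f',
            pow_orderOf_eq_one, MonoidHom.one_apply, one_pow, inv_one]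
        have h3 := pow_gcd_eq_one.mpr (And.intro h1 h2)
        rw [show Nat.gcd N.index (orderOf f * orderOf f') = 1 from by
          rw [ha]
          exact Nat.Coprime.pow_left _ (Nat.Coprime.mul_right (hp.out.coprime_iff_not_dvd.2 ho)
            (hp.out.coprime_iff_not_dvd.2 ho')), pow_one, mul_inv_eq_one] at h3
        exact h3
      have hcop : Nat.Coprime N.index (charDegree (χ : G → ℂ)) := by
        rw [ha]; exact Nat.Coprime.pow_left _ (hp.out.coprime_iff_not_dvd.2 hχ.1)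
      obtain ⟨η, -, hun⟩ := CfsgLib.CharExtension.existsUnique_ext_det N hθi (charDegree (χ : G → ℂ))
        (by rw [OneMemClass.coe_one, irr_one_eq_charDegree]) hcop ⟨_, χ.2, fun _ => rfl⟩ f hfN
      exact Subtype.ext ((hun _ ⟨χ.2, fun _ => rfl, hf⟩).trans
        (hun _ ⟨χ'.2, fun n => (he' n).symm, by rw [hf', hff]⟩).symm)
    · intro θ hθ
      obtain ⟨hθi, hθd⟩ := (Finset.mem_filter.1 hθ).2
      replace hθi := (hinv θ).1 hθi
      obtain ⟨hdc, hd1⟩ := CfsgLib.CharExtension.isCharacter_detChar N θ.2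
      obtain ⟨f, hf⟩ := CfsgLib.LinearExt.exists_unitsHom hdc hd1
      have hfinv : CfsgLib.LinearExt.InvHom N f := fun g n => Units.ext (by
        have h1 := CfsgLib.CharExtension.detChar_invariant N θ.2 hθi g n
        rw [hf] at h1
        exact h1)
      have hof : ¬ p ∣ orderOf f := CfsgLib.PrincipalSq.not_dvd_orderOf_hom f
      have hco : Nat.Coprime (orderOf f) N.index := by
        rw [ha]; exact Nat.Coprime.pow_right _ (hp.out.coprime_iff_not_dvd.2 hof).symm
      obtain ⟨μ₀, hμ₀⟩ := CfsgLib.LinearExt.extends_of_coprime hco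
        (CfsgLib.LinearExt.powExtends_of_pow_eq_one (pow_orderOf_eq_one f))
        (CfsgLib.LinearExt.powExtends_index hfinv le_rfl f (fun _ => rfl))
      -- remove the `p`-part
      set k := (orderOf μ₀).factorization p with hk
      obtain ⟨c, hc0, hc1⟩ := Nat.chineseRemainder
        (Nat.Coprime.pow_left k (hp.out.coprime_iff_not_dvd.2 hof)) 0 1
      set μ := μ₀ ^ c with hμdef
      have hμN : ∀ n : N, μ n = f n := fun n => by
        rw [hμdef, MonoidHom.pow_apply, hμ₀, ← MonoidHom.pow_apply]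
        refine congrArg (fun t : N →* ℂˣ => t n) ?_
        conv_rhs => rw [← pow_one f]
        rw [← pow_mod_orderOf, hc1, pow_mod_orderOf]
      have hμo : ¬ p ∣ orderOf μ := by
        intro hd
        obtain ⟨c', rfl⟩ := Nat.modEq_zero_iff_dvd.1 hc0
        have h1 : orderOf μ ∣ orderOf μ₀ / p ^ k := by
          refine orderOf_dvd_of_pow_eq_one ?_
          rw [hμdef, ← pow_mul, mul_right_comm, Nat.mul_div_cancel' (Nat.ordProj_dvd _ _),
            pow_mul, pow_orderOf_eq_one, one_pow]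
        exact Nat.not_dvd_ordCompl hp.out (orderOf_pos μ₀).ne' (hd.trans h1)
      have hμθ : ∀ n : N, (μ n : ℂ) = detChar (θ : N → ℂ) n := fun n => by rw [hμN, hf]
      have hcop : Nat.Coprime N.index (charDegree (θ : N → ℂ)) := by
        rw [ha]; exact Nat.Coprime.pow_left _ (hp.out.coprime_iff_not_dvd.2 hθd)
      obtain ⟨η, hη, hηn⟩ := CfsgLib.CharExtension.extends_of_det N θ.2 hθi
        (charDegree (θ : N → ℂ)) (irr_one_eq_charDegree θ) hcop (fun g => (μ g : ℂ))
        (isCharacter_of_irr (isIrrCharacter_of_hom μ)) (by simp) hμθ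
      obtain ⟨χ, ⟨hχ, hχn, hχd⟩, -⟩ := CfsgLib.CharExtension.existsUnique_ext_det N θ.2
        (charDegree (θ : N → ℂ)) (irr_one_eq_charDegree θ) hcop ⟨η, hη, hηn⟩ μ hμθ
      have hmem : (⟨χ, hχ⟩ : IrrCharacter G) ∈ U := by
        refine ⟨?_, ?_⟩
        · have : charDegree χ = charDegree (θ : N → ℂ) := by
            simp [charDegree, ← hχn 1]
          rwa [show charDegree ((⟨χ, hχ⟩ : IrrCharacter G) : G → ℂ) = _ from this]
        · show ¬ p ∣ orderOf (detChar χ)
          rw [hχd, CfsgLib.LinearExt.orderOf_coeUnitsFun]; exact hμo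
      exact ⟨⟨χ, hχ⟩, Finset.mem_filter.2 ⟨Finset.mem_univ _, hmem⟩,
        Subtype.ext (funext fun n => (hΦ _ hmem n).trans (hχn n))⟩
  rw [finsum_mem_eq_finite_toFinset_sum _ (Set.toFinite _),
    show (Set.toFinite U).toFinset = Finset.univ.filter (· ∈ U) by ext; simp [hU], hmain,
    ← ZMod.intCast_eq_intCast_iff]
  push_cast
  have h1 := CfsgLib.CharCorrQ.sum_irr_reduce act P.2
    (fun θ : IrrCharacter N => ((charDegree (θ : N → ℂ) : ZMod p)) ^ 2)
    fun s θ => by simp [charDegree, twistIrr_apply]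
  have h2 : ∑ θ : IrrCharacter N, charDegree (θ : N → ℂ) ^ 2 = Nat.card N := by
    have h := sum_sq_degrees (G := N)
    have h2 : ((∑ θ : IrrCharacter N, charDegree (θ : N → ℂ) ^ 2 : ℕ) : ℂ) = (Nat.card N : ℂ) := by
      push_cast
      rw [← h]
      exact Finset.sum_congr (by ext; simp) fun θ _ => by rw [irr_one_eq_charDegree]
    exact_mod_cast h2
  have h3 := congrArg (Nat.cast (R := ZMod p)) h2
  push_cast at h3
  rw [← h3, h1, hF]
  refine (Finset.sum_subset (fun θ hθ => ?_) fun θ hθ hθ' => ?_).symm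
  · simp only [Finset.mem_filter] at hθ ⊢
    exact ⟨hθ.1, hθ.2.1⟩
  · simp only [Finset.mem_filter, Finset.mem_univ, true_and, not_and, not_not] at hθ hθ'
    rw [(ZMod.natCast_eq_zero_iff _ _).2 (hθ' hθ), zero_pow two_ne_zero]

end CfsgLib.CharDeg
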