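import Cfsg.Agent.Lib.Blocks12.NilpotentLength
import Cfsg.Agent.Lib.Chars17.Constituents
import Cfsg.Agent.Lib.Characters.Ramified

/-!
Garrison: a character whose kernel is not contained in the Fitting subgroup, or equals it with
solvable proper quotient, has a character of larger degree with smaller kernel.
-/

set_option autoImplicit false
set_option linter.unusedSectionVars false
set_option linter.style.haveILetI false

noncomputable section

namespace CfsgLib.Garrison

open Cfsg CfsgLib.Characters CfsgLib.Chars17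
open scoped ComplexConjugate

universe u

variable {G : Type u} [Group G] [Finite G]

/-- An element conjugating a Sylow subgroup of `K` into an overgroup `R` is in `R N(P)`. -/
theorem exists_mul_mem_normalizer {p : ℕ} [Fact p.Prime] {R K : Subgroup G} (hRK : R ≤ K)
    (P : Sylow p K) (hPR : (P : Subgroup K).map K.subtype ≤ R) (f : G)
    (hf : ∀ x ∈ (P : Subgroup K).map K.subtype, f * x * f⁻¹ ∈ R) :
    ∃ r ∈ R, r⁻¹ * f ∈
      Subgroup.normalizer ((((P : Subgroup K).map K.subtype : Subgroup G)) : Set G) := by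
  set P0 : Subgroup G := (P : Subgroup K).map K.subtype with hP0
  have hrange : (P : Subgroup K) ≤ (Subgroup.inclusion hRK).range := fun x hx =>
    ⟨⟨(x : G), hPR ⟨x, hx, rfl⟩⟩, Subtype.ext rfl⟩
  let P1 : Sylow p R := P.comapOfInjective (Subgroup.inclusion hRK)
    (Subgroup.inclusion_injective hRK) hrange
  have hP1 : ∀ x : R, x ∈ (P1 : Subgroup R) ↔ (x : G) ∈ P0 := by
    intro x
    refine ⟨fun hx => ⟨Subgroup.inclusion hRK x, hx, rfl⟩, ?_⟩
    rintro ⟨y, hy, hyx⟩
    show Subgroup.inclusion hRK x ∈ (P : Subgroup K)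
    rwa [show Subgroup.inclusion hRK x = y from Subtype.ext hyx.symm]
  let Q : Subgroup R := (P0.map (MulAut.conj f).toMonoidHom).subgroupOf R
  have hQcard : Nat.card Q = Nat.card (P1 : Subgroup R) := by
    have hQR : P0.map (MulAut.conj f).toMonoidHom ≤ R := by
      rintro _ ⟨x, hx, rfl⟩
      exact hf x hx
    have e : (P1 : Subgroup R) = P0.subgroupOf R := Subgroup.ext hP1
    rw [Nat.card_congr (Subgroup.subgroupOfEquivOfLe hQR).toEquiv,
      Subgroup.card_map_of_injective (MulAut.conj f).injective, e,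
      Nat.card_congr (Subgroup.subgroupOfEquivOfLe hPR).toEquiv]
  let Q1 : Sylow p R := Sylow.ofCard Q (by rw [hQcard, Sylow.card_eq_multiplicity])
  obtain ⟨r, hr⟩ := MulAction.exists_smul_eq R P1 Q1
  refine ⟨r, r.2, ?_⟩
  rw [Subgroup.mem_normalizer_iff']
  have key : ∀ x ∈ P0, ((r : G)⁻¹ * f) * x * ((r : G)⁻¹ * f)⁻¹ ∈ P0 := by
    intro x hx
    have hxQ : (⟨f * x * f⁻¹, hf x hx⟩ : R) ∈ (Q1 : Subgroup R) := ⟨x, hx, rfl⟩
    rw [← hr, Sylow.coe_subgroup_smul, Subgroup.mem_pointwise_smul_iff_inv_smul_mem] at hxQ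
    have h1 := (hP1 _).1 hxQ
    convert h1 using 1
    simp [MulAut.smul_def, mul_assoc]
  set c := (r : G)⁻¹ * f
  have hmap : P0.map (MulAut.conj c).toMonoidHom = P0 := by
    exact Subgroup.eq_of_le_of_card_ge (by rintro _ ⟨x, hx, rfl⟩; exact key x hx)
      (Nat.card_congr (P0.equivMapOfInjective (MulAut.conj c).toMonoidHom
        (MulAut.conj c).injective).toEquiv).le
  intro n
  constructor
  · intro hn
    have h2 := key _ hn
    simpa [mul_assoc] using h2
  · intro hn
    obtain ⟨y, hy, hyn⟩ := (hmap.symm ▸ hn : c * n ∈ P0.map (MulAut.conj c).toMonoidHom)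
    have : y = n * c := by
      have h3 : c * y * c⁻¹ = c * n := hyn
      calc y = c⁻¹ * (c * y * c⁻¹) * c := by group
        _ = n * c := by rw [h3]; group
    exact this ▸ hy

/-- Restriction to a supplement of a subgroup of the kernel stays irreducible. -/
theorem isIrr_res_of_sup {χ : IrrCharacter G} {L H : Subgroup G} [L.Normal] (hL : L ≤ irrKer χ)
    (hLH : H ⊔ L = ⊤) : IsIrrCharacter H (fun h : H => (χ : G → ℂ) h) := by
  haveI := Fintype.ofFinite G
  obtain ⟨n, ρ, hρ, hρc⟩ := χ.2
  refine ⟨n, ρ.comp H.subtype, ?_, funext fun h => congrFun hρc (h : G)⟩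
  rw [isIrreducible_iff] at hρ ⊢
  refine ⟨hρ.1, fun U hU => hρ.2 U fun g v hv => ?_⟩
  obtain ⟨h, hh, l, hl, rfl⟩ :=
    Subgroup.mem_sup_of_normal_right.1 (hLH ▸ Subgroup.mem_top g : g ∈ H ⊔ L)
  have h1 : ρ l = 1 := (character_eq_one_iff ρ l).1 (by
    have := mem_irrKer.1 (hL hl)
    rwa [← hρc] at this)
  rw [map_mul, h1, mul_one]
  exact hU ⟨h, hh⟩ v hv

/-- The kernel of a constituent of a character contains the kernel. -/
theorem constituent_apply_eq {H : Type u} [Group H] [Fintype H] {φ : H → ℂ} (hφ : IsCharacter H φ)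
    (θ : IrrCharacter H) (hθ : classInner φ (θ : H → ℂ) ≠ 0) {h : H} (hh : φ h = φ 1) :
    (θ : H → ℂ) h = (θ : H → ℂ) 1 := by
  obtain ⟨m, hsum, hm, -⟩ := exists_decomp hφ
  rw [hm, Nat.cast_ne_zero] at hθ
  have hval : ∀ x, φ x = ∑ ψ : IrrCharacter H, (m ψ : ℂ) * (ψ : H → ℂ) x := fun x => by
    rw [congrFun hsum x]; simp [Finset.sum_apply]
  have hre : ∀ ψ : IrrCharacter H,
      ((ψ : H → ℂ) h).re ≤ (charDegree (ψ : H → ℂ) : ℝ) := fun ψ =>
    (Complex.re_le_norm _).trans ((norm_irr_le ψ h).trans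
      (by rw [← cast_irrDegree, Complex.norm_natCast]))
  have h2 := congrArg Complex.re hh
  rw [hval, hval, Complex.re_sum, Complex.re_sum] at h2
  simp only [← cast_irrDegree, Complex.mul_re, Complex.natCast_re, Complex.natCast_im, zero_mul,
    sub_zero] at h2
  have h3 := (Finset.sum_eq_sum_iff_of_le fun ψ _ =>
    mul_le_mul_of_nonneg_left (hre ψ) (Nat.cast_nonneg (m ψ))).1 h2 θ (Finset.mem_univ θ)
  have h4 : ((θ : H → ℂ) h).re = (charDegree (θ : H → ℂ) : ℝ) :=
    mul_left_cancel₀ (Nat.cast_ne_zero.2 hθ) h3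
  rw [← cast_irrDegree]
  refine Complex.ext (by simpa using h4) ?_
  have h5 := norm_irr_le θ h
  rw [← cast_irrDegree, Complex.norm_natCast, ← h4] at h5
  have h6 : ‖(θ : H → ℂ) h‖ ^ 2 ≤ ((θ : H → ℂ) h).re ^ 2 :=
    pow_le_pow_left₀ (norm_nonneg _) h5 2
  rw [← Complex.normSq_eq_norm_sq, Complex.normSq_apply] at h6
  have h7 : ((θ : H → ℂ) h).im * ((θ : H → ℂ) h).im = 0 := by
    nlinarith [mul_self_nonneg ((θ : H → ℂ) h).im]
  simpa using mul_self_eq_zero.1 h7

/-- The alternative at a maximal subgroup supplementing the kernel. -/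
theorem supplement (χ : IrrCharacter G) (H : Subgroup G) (hH : IsCoatom H)
    (hKH : ¬ irrKer χ ≤ H) [(irrKer χ).Normal] :
    (∃ ψ : IrrCharacter G, charDegree (χ : G → ℂ) < charDegree (ψ : G → ℂ) ∧
      irrKer ψ < irrKer χ) ∨
    ∀ h ∈ H, (χ : G → ℂ) h ≠ 0 → ∀ g : G, g⁻¹ * h * g ∈ H := by
  classical
  haveI := Fintype.ofFinite G
  haveI := Fintype.ofFinite H
  have hsup : H ⊔ irrKer χ = ⊤ := hH.2 _ (left_lt_sup.mpr hKH)
  let θ : IrrCharacter H := ⟨_, isIrr_res_of_sup le_rfl hsup⟩
  have hθdeg : charDegree (θ : H → ℂ) = charDegree (χ : G → ℂ) := charDegree_res H _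
  obtain ⟨m, hsum, hm, hd⟩ := exists_decomp
    (CfsgLib.Induction.isCharacter_indFun H (irr_isCharacter θ))
  have hrec : ∀ ψ : IrrCharacter G, m ψ ≠ 0 →
      classInner (fun h : H => (ψ : G → ℂ) h) (θ : H → ℂ) ≠ 0 := by
    intro ψ hψ h0
    have := hm ψ
    rw [CfsgLib.Induction.classInner_indFun H _ (irr_isClassFunction ψ), classInner_conj_symm, h0,
      map_zero] at this
    exact hψ (Nat.cast_eq_zero.1 this.symm)
  by_cases hbig : ∃ ψ : IrrCharacter G, m ψ ≠ 0 ∧
      charDegree (χ : G → ℂ) < charDegree (ψ : G → ℂ)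
  · obtain ⟨ψ, hψm, hψ⟩ := hbig
    haveI hLn : (irrKer ψ).Normal := ⟨fun x hx g => by
      rw [mem_irrKer] at hx ⊢
      rw [irr_isClassFunction ψ x g]
      exact hx⟩
    have hLH : irrKer ψ ≤ H := by
      by_contra hL
      have hirr := isIrr_res_of_sup (χ := ψ) le_rfl (hH.2 _ (left_lt_sup.mpr hL))
      have he : (fun h : H => (ψ : G → ℂ) h) = (θ : H → ℂ) := by
        by_contra hne
        exact hrec ψ hψm (classInner_irr_ne hirr θ.2 hne)
      have := congrArg charDegree he
      rw [charDegree_res, hθdeg] at this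
      omega
    have hLK : irrKer ψ ≤ irrKer χ := fun x hx => mem_irrKer.2
      (constituent_apply_eq (isCharacter_res H (irr_isCharacter ψ)) θ (hrec ψ hψm)
        (h := ⟨x, hLH hx⟩) (mem_irrKer.1 hx))
    exact Or.inl ⟨ψ, hψ, lt_of_le_not_ge hLK fun h => hKH (h.trans hLH)⟩
  · push Not at hbig
    have hext : ∀ ψ : IrrCharacter G, m ψ ≠ 0 →
        (fun h : H => (ψ : G → ℂ) h) = (θ : H → ℂ) := fun ψ hψ =>
      eq_of_classInner_ne_of_degree_le (isCharacter_res H (irr_isCharacter ψ)) θ (hrec ψ hψ)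
        (by rw [charDegree_res, hθdeg]; exact hbig ψ hψ)
    have hd' : (H.index : ℂ) * (χ : G → ℂ) 1 =
        ∑ ψ : IrrCharacter G, (m ψ : ℂ) * (ψ : G → ℂ) 1 := by
      rw [charDegree_indFun H (irr_isCharacter θ), hθdeg] at hd
      simp only [← cast_irrDegree]
      exact_mod_cast hd
    have hval : ∀ h ∈ H, indFun H (θ : H → ℂ) h = (H.index : ℂ) * (χ : G → ℂ) h := by
      intro h hh
      have hne : (χ : G → ℂ) 1 ≠ 0 := irr_one_ne_zero χ
      apply mul_right_cancel₀ hne
      rw [mul_right_comm, hd', congrFun hsum h, Finset.sum_apply, Finset.sum_mul, Finset.sum_mul]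
      refine Finset.sum_congr rfl fun ψ _ => ?_
      by_cases hψ : m ψ = 0
      · simp [hψ]
      · have e1 : (ψ : G → ℂ) h = (χ : G → ℂ) h := congrFun (hext ψ hψ) ⟨h, hh⟩
        have e2 : (ψ : G → ℂ) 1 = (χ : G → ℂ) 1 := congrFun (hext ψ hψ) 1
        simp only [Pi.smul_apply, smul_eq_mul, e1, e2]
        ring
    refine Or.inr fun h hh hne g => ?_
    have h1 := hval h hh
    simp only [indFun] at h1
    have h2 : ∀ x : G, extendByZero H (θ : H → ℂ) (x⁻¹ * h * x) =
        if x⁻¹ * h * x ∈ H then (χ : G → ℂ) h else 0 := fun x => by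
      unfold extendByZero
      split_ifs with hx
      · rw [show x⁻¹ * h * x = ((⟨x⁻¹ * h * x, hx⟩ : H) : G) from rfl,
          Subtype.val_injective.extend_apply]
        show (χ : G → ℂ) (x⁻¹ * h * x) = _
        have h3 := irr_isClassFunction χ h x⁻¹
        rwa [inv_inv] at h3
      · rw [Function.extend_apply']
        · rfl
        · rintro ⟨y, hy⟩
          exact hx (hy ▸ y.2)
    rw [Finset.sum_congr rfl fun x _ => h2 x, ← Finset.sum_filter, Finset.sum_const, nsmul_eq_mul,
      ← mul_assoc] at h1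
    have h4 := mul_right_cancel₀ hne h1
    rw [inv_mul_eq_iff_eq_mul₀ (Nat.cast_ne_zero.2 Nat.card_pos.ne'), ← Nat.cast_mul,
      Subgroup.card_mul_index, Nat.cast_inj, Nat.card_eq_fintype_card, ← Finset.card_univ] at h4
    have h5 := Finset.eq_of_subset_of_card_le (Finset.subset_univ _) h4.ge
    have h6 := Finset.mem_univ g
    rw [← h5] at h6
    exact (Finset.mem_filter.1 h6).2

/-- A subgroup all whose Sylow subgroups are normal in `G` lies in the Fitting subgroup. -/
theorem exists_sylow_not_normal {K : Subgroup G} [K.Normal] (h : ¬ K ≤ fittingSubgroup G) :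
    ∃ (p : ℕ) (_ : Fact p.Prime) (P : Sylow p K), ¬ ((P : Subgroup K).map K.subtype).Normal := by
  by_contra hc
  push Not at hc
  refine h (le_sSup ⟨inferInstance, (Group.isNilpotent_of_finite_tfae.out 0 3 rfl rfl).2
    fun p hp P => ?_⟩)
  haveI := hc p hp P
  have := Subgroup.Normal.comap (hc p hp P) K.subtype
  rwa [Subgroup.comap_map_eq_self_of_injective K.subtype_injective] at this

theorem main (χ : IrrCharacter G)
    (h : ¬ irrKer χ ≤ fittingSubgroup G ∨ (irrKer χ = fittingSubgroup G ∧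
      (∀ _ : (irrKer χ).Normal, Group.IsSolvable (G ⧸ irrKer χ)) ∧ irrKer χ ≠ ⊤)) :
    ∃ ψ : IrrCharacter G, charDegree (χ : G → ℂ) < charDegree (ψ : G → ℂ) ∧
      irrKer ψ < irrKer χ := by
  classical
  haveI := Fintype.ofFinite G
  haveI hKn : (irrKer χ).Normal := ⟨fun x hx g => by
    rw [mem_irrKer] at hx ⊢
    rw [irr_isClassFunction χ x g]
    exact hx⟩
  set K := irrKer χ with hK
  rcases h with h | ⟨hKF, hsol, hKtop⟩
  · obtain ⟨p, hp, P, hP⟩ := exists_sylow_not_normal h
    set P0 : Subgroup G := (P : Subgroup K).map K.subtype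
    set N := Subgroup.normalizer (P0 : Set G) with hN
    have hNK : N ⊔ K = ⊤ := Sylow.normalizer_sup_eq_top P
    obtain ⟨H, hH, hNH⟩ := (eq_top_or_exists_le_coatom N).resolve_left
      fun e => hP (Subgroup.normalizer_eq_top_iff.mp e)
    have hKH : ¬ K ≤ H := fun e => hH.1 (top_le_iff.mp (hNK ▸ sup_le hNH e))
    refine (supplement χ H hH hKH).resolve_right fun hcl => ?_
    have hRn : ∀ x ∈ H ⊓ K, ∀ g : G, g * x * g⁻¹ ∈ H ⊓ K := fun x hx g => by
      refine ⟨?_, hKn.conj_mem x hx.2 g⟩
      have h1 := hcl x hx.1 (by rw [mem_irrKer.1 hx.2]; exact irr_one_ne_zero χ) g⁻¹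
      rwa [inv_inv] at h1
    have hPR : P0 ≤ H ⊓ K :=
      le_inf (Subgroup.le_normalizer.trans hNH) (Subgroup.map_subtype_le _)
    refine hKH fun f hf => ?_
    obtain ⟨r, hr, hrf⟩ := exists_mul_mem_normalizer inf_le_right P hPR f
      fun x hx => hRn x (hPR hx) f
    have := H.mul_mem hr.1 (hNH hrf)
    rwa [mul_inv_cancel_left] at this
  · haveI := hsol hKn
    have hne : (⊤ : Subgroup (G ⧸ K)) ≠ ⊥ := fun e => hKtop (by
      have := congrArg (Subgroup.comap (QuotientGroup.mk' K)) e
      rwa [Subgroup.comap_top, MonoidHom.comap_bot, QuotientGroup.ker_mk', eq_comm] at this)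
    obtain ⟨Mb, hMb, -⟩ := CfsgLib.Structure.exists_isMinNormal_le
      (inferInstance : (⊤ : Subgroup (G ⧸ K)).Normal) hne
    obtain ⟨q, hq, hMcomm, hMexp⟩ :=
      CfsgLib.Structure.isElementaryAbelian_of_isMinNormal_of_isSolvable hMb inferInstance
    haveI := Fact.mk hq
    haveI := hMb.normal
    set π := QuotientGroup.mk' K with hπ
    set M := Mb.comap π with hM
    haveI hMn : M.Normal := hMb.normal.comap π
    have hKM : K ≤ M := fun x hx => by
      rw [hM, Subgroup.mem_comap, show π x = 1 from (QuotientGroup.eq_one_iff x).2 hx]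
      exact Mb.one_mem
    have hMne : ¬ M ≤ K := fun e => hMb.ne_bot (by
      refine le_bot_iff.mp fun y hy => ?_
      obtain ⟨x, rfl⟩ := QuotientGroup.mk'_surjective K y
      exact Subgroup.mem_bot.mpr ((QuotientGroup.eq_one_iff x).2 (e hy)))
    obtain ⟨P⟩ : Nonempty (Sylow q M) := inferInstance
    set P0 : Subgroup G := (P : Subgroup M).map M.subtype
    have hP0M : P0 ≤ M := Subgroup.map_subtype_le _
    have hMPK : M ≤ P0 ⊔ K := by
      have hidx : (K.subgroupOf M ⊔ (P : Subgroup M)).index = 1 := by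
        have h1 : ¬ q ∣ (K.subgroupOf M ⊔ (P : Subgroup M)).index := fun h =>
          P.not_dvd_index (h.trans (Subgroup.index_dvd_of_le le_sup_right))
        have hmq : IsPGroup q (M ⧸ K.subgroupOf M) := by
          intro g
          obtain ⟨x, rfl⟩ := QuotientGroup.mk'_surjective _ g
          refine ⟨1, ?_⟩
          rw [pow_one, ← map_pow]
          refine (QuotientGroup.eq_one_iff _).mpr (Subgroup.mem_subgroupOf.2 ?_)
          rw [Subgroup.coe_pow]
          refine (QuotientGroup.eq_one_iff _).mp ?_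
          show π ((x : G) ^ q) = 1
          rw [map_pow]
          exact hMexp (π (x : G)) x.2
        obtain ⟨k, hk⟩ := IsPGroup.iff_card.1 hmq
        rw [← Subgroup.index_eq_card] at hk
        obtain ⟨j, -, hj⟩ := (Nat.dvd_prime_pow hq).mp (hk ▸ Subgroup.index_dvd_of_le
          (le_sup_left : K.subgroupOf M ≤ K.subgroupOf M ⊔ (P : Subgroup M)))
        rcases j with _ | j
        · rw [hj, pow_zero]
        · exact absurd (hj ▸ dvd_pow_self q j.succ_ne_zero) h1
      intro x hx
      have hmem : (⟨x, hx⟩ : M) ∈ (P : Subgroup M) ⊔ K.subgroupOf M := by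
        rw [sup_comm, Subgroup.index_eq_one.1 hidx]; trivial
      obtain ⟨y, hy, z, hz, hyz⟩ := Subgroup.mem_sup_of_normal_right.1 hmem
      rw [show x = ((y : M) : G) * ((z : M) : G) from congrArg Subtype.val hyz.symm]
      exact Subgroup.mul_mem_sup ⟨y, hy, rfl⟩ (Subgroup.mem_subgroupOf.1 hz)
    set N := Subgroup.normalizer (P0 : Set G) with hN
    have hNK : N ⊔ K = ⊤ := by
      have hfr : N ⊔ M = ⊤ := Sylow.normalizer_sup_eq_top P
      rw [eq_top_iff, ← hfr]
      exact sup_le le_sup_left (hMPK.trans (sup_le_sup Subgroup.le_normalizer le_rfl))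
    have hKnil : Group.IsNilpotent K := hKF ▸ CfsgLib.IndexPowers.isNilpotent_fitting
    obtain ⟨H, hH, hNH⟩ := (eq_top_or_exists_le_coatom N).resolve_left fun e => by
      have hPn : P0.Normal := Subgroup.normalizer_eq_top_iff.mp e
      have hP0K : P0 ≤ K := hKF.symm ▸
        CfsgLib.NilpotentLength.fitting_le_iff hPn (P.isPGroup'.map _).isNilpotent
      exact hMne (hMPK.trans (sup_le hP0K le_rfl))
    have hKH : ¬ K ≤ H := fun e => hH.1 (top_le_iff.mp (hNK ▸ sup_le hNH e))
    refine (supplement χ H hH hKH).resolve_right fun hcl => ?_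
    set L := H ⊓ K with hL
    haveI hLn : L.Normal := ⟨fun x hx g => by
      refine ⟨?_, hKn.conj_mem x hx.2 g⟩
      have h1 := hcl x hx.1 (by rw [mem_irrKer.1 hx.2]; exact irr_one_ne_zero χ) g⁻¹
      rwa [inv_inv] at h1⟩
    set ρ := QuotientGroup.mk' L with hρ
    -- `K / L` is abelian
    have hKK : ∀ a ∈ K, ∀ b ∈ K, a * b * a⁻¹ * b⁻¹ ∈ L := by
      by_contra hcon
      set D := ⁅K, K⁆ with hD
      have hDH : ¬ D ≤ H := fun e => hcon fun a ha b hb =>
        ⟨e (Subgroup.commutator_mem_commutator ha hb),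
          (Subgroup.commutator_le_left K K) (Subgroup.commutator_mem_commutator ha hb)⟩
      have hsupD : D ⊔ H = ⊤ := hH.2 _ (by rw [sup_comm]; exact left_lt_sup.mpr hDH)
      let f : K →* G ⧸ L := ρ.comp K.subtype
      have hQ : Nontrivial f.range := by
        obtain ⟨k, hk, hkH⟩ := SetLike.not_le_iff_exists.1 hKH
        refine ⟨⟨_, ⟨⟨k, hk⟩, rfl⟩⟩, 1, fun e => hkH ?_⟩
        exact ((QuotientGroup.eq_one_iff k).1 (congrArg Subtype.val e)).1
      haveI : Group.IsNilpotent f.range :=
        Group.nilpotent_of_surjective f.rangeRestrict f.rangeRestrict_surjective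
      refine (Group.IsSolvable.commutator_lt_top_of_nontrivial f.range).ne (top_le_iff.1 ?_)
      rintro ⟨_, ⟨k, hk⟩, rfl⟩ -
      obtain ⟨d, hd, x, hx, hdx⟩ :=
        Subgroup.mem_sup_of_normal_left.1 (hsupD ▸ Subgroup.mem_top k : k ∈ D ⊔ H)
      have hdK : d ∈ K := Subgroup.commutator_le_left K K hd
      have hxL : x ∈ L := ⟨hx, by
        rw [show x = d⁻¹ * k by rw [← hdx, inv_mul_cancel_left]]
        exact K.mul_mem (K.inv_mem hdK) hk⟩
      have h1 : d ∈ (commutator K).map K.subtype := by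
        rw [Subgroup.map_subtype_commutator]; exact hd
      obtain ⟨c, hc, rfl⟩ := h1
      have h2 : f.rangeRestrict c ∈ commutator f.range := by
        have h3 := Subgroup.mem_map_of_mem f.rangeRestrict hc
        rw [commutator_def, Subgroup.map_commutator, ← MonoidHom.range_eq_map,
          MonoidHom.range_eq_top.2 f.rangeRestrict_surjective] at h3
        exact h3
      convert h2 using 1
      refine Subtype.ext ?_
      show ρ k = ρ (c : G)
      rw [← hdx, map_mul, show ρ x = 1 from (QuotientGroup.eq_one_iff x).2 hxL, mul_one]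
      rfl
    -- an element of `P` outside `K` where `χ` does not vanish
    obtain ⟨y, hy, hyK, hyne⟩ : ∃ y ∈ P0, y ∉ K ∧ (χ : G → ℂ) y ≠ 0 := by
      by_contra hcon
      push Not at hcon
      haveI := Fintype.ofFinite M
      refine hMne ?_
      have hinner : classInner (fun m : M => (χ : G → ℂ) m) (fun _ => (1 : ℂ)) ≠ 0 := by
        have h1 : ∀ m : M, (χ : G → ℂ) m = if (m : G) ∈ K then (χ : G → ℂ) 1 else 0 := by
          intro m
          split_ifs with hm
          · exact mem_irrKer.1 hm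
          · obtain ⟨a, ha, b, hb, hab⟩ := Subgroup.mem_sup_of_normal_right.1 (hMPK m.2)
            have haK : a ∉ K := fun e => hm (hab ▸ K.mul_mem e hb)
            obtain ⟨n, σ, hσ, hσc⟩ := χ.2
            have hb1 : σ b = 1 := (character_eq_one_iff σ b).1 (by
              have := mem_irrKer.1 hb
              rwa [← hσc] at this)
            rw [← hcon a ha haK, ← hab, ← hσc, Representation.character, Representation.character,
              map_mul, hb1, mul_one]
        unfold classInner
        simp only [map_one, mul_one, h1, ← Finset.sum_filter, Finset.sum_const, nsmul_eq_mul]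
        refine mul_ne_zero (inv_ne_zero (Nat.cast_ne_zero.2 Nat.card_pos.ne')) (mul_ne_zero ?_
          (irr_one_ne_zero χ))
        exact Nat.cast_ne_zero.2 (Finset.card_ne_zero.2
          ⟨1, Finset.mem_filter.2 ⟨Finset.mem_univ _, K.one_mem⟩⟩)
      have hres := CfsgLib.Ramified.res_eq_smul_of_invariant M χ.2 (θ := fun _ => (1 : ℂ))
        isIrrCharacter_one (fun _ _ => rfl) hinner
      intro x hx
      rw [hK, mem_irrKer]
      have h1 := congrFun hres ⟨x, hx⟩
      have h2 := congrFun hres 1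
      simp only [Pi.smul_apply, smul_eq_mul, mul_one, OneMemClass.coe_one] at h1 h2
      exact h1.trans h2.symm
    set R := Subgroup.normalClosure ({y} : Set G) with hR
    have hyH : y ∈ H := hNH (Subgroup.le_normalizer hy)
    have hRH : R ≤ H := by
      refine (Subgroup.closure_le H).2 fun x hx => ?_
      obtain ⟨a, ha, hax⟩ := Group.mem_conjugatesOfSet_iff.1 hx
      rw [Set.mem_singleton_iff] at ha
      subst ha
      obtain ⟨g, rfl⟩ := isConj_iff.1 hax
      have h1 := hcl a hyH hyne g⁻¹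
      rwa [inv_inv] at h1
    have hRM : R ≤ M := Subgroup.normalClosure_le_normal (Set.singleton_subset_iff.2 (hP0M hy))
    have hMRK : M ≤ R ⊔ K := by
      rcases hMb.2.2 (R.map π)
        ((inferInstance : R.Normal).map π (QuotientGroup.mk'_surjective K))
        (Subgroup.map_le_iff_le_comap.2 hRM) with e | e
      · exfalso
        rw [Subgroup.map_eq_bot_iff, QuotientGroup.ker_mk'] at e
        exact hyK (e (Subgroup.subset_normalClosure rfl))
      · rw [hM, ← e, Subgroup.comap_map_eq, QuotientGroup.ker_mk']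
    have hcent : M ≤ (Subgroup.centralizer ((K.map ρ : Subgroup (G ⧸ L)) : Set (G ⧸ L))).comap ρ := by
      refine hMRK.trans (sup_le (fun x hx => ?_) fun x hx => ?_)
      all_goals
        rw [Subgroup.mem_comap, Subgroup.mem_centralizer_iff]
        rintro _ ⟨k, hk, rfl⟩
        rw [← map_mul, ← map_mul]
        refine (QuotientGroup.eq.2 ?_)
      · have h1 : x⁻¹ * k⁻¹ * x * k ∈ L := by
          refine ⟨hRH ?_, ?_⟩
          · have := R.mul_mem (R.inv_mem hx)
              ((inferInstance : R.Normal).conj_mem x hx k⁻¹)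
            simpa [mul_assoc] using this
          · have := K.mul_mem (hKn.conj_mem k⁻¹ (K.inv_mem hk) x⁻¹) hk
            simpa [mul_assoc] using this
        simpa [mul_assoc] using h1
      · have h1 := hKK x⁻¹ (K.inv_mem hx) k⁻¹ (K.inv_mem hk)
        simpa [mul_assoc] using h1
    refine hKH fun f hf => ?_
    set PL := P0 ⊔ L
    have hPLH : PL ≤ H := sup_le (Subgroup.le_normalizer.trans hNH) inf_le_left
    obtain ⟨r, hr, hrf⟩ := exists_mul_mem_normalizer
      (sup_le hP0M (inf_le_right.trans hKM) : PL ≤ M) P le_sup_left f fun x hx => by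
        have h1 : ρ f * ρ x = ρ x * ρ f :=
          Subgroup.mem_centralizer_iff.1 (Subgroup.mem_comap.1 (hcent (hP0M hx))) _ ⟨f, hf, rfl⟩
        have h2 : x⁻¹ * (f * x * f⁻¹) ∈ L := by
          rw [← QuotientGroup.eq_one_iff]
          show ρ (x⁻¹ * (f * x * f⁻¹)) = 1
          rw [map_mul, map_mul, map_mul, h1, map_inv, map_inv, mul_inv_cancel_right,
            inv_mul_cancel]
        rw [show f * x * f⁻¹ = x * (x⁻¹ * (f * x * f⁻¹)) by group]
        exact Subgroup.mul_mem_sup hx h2
    have := H.mul_mem (hPLH hr) (hNH hrf)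
    rwa [mul_inv_cancel_left] at this

end CfsgLib.Garrison
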