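import Cfsg.Agent.S4456
import Cfsg.Agent.Lib.Blocks12.NilpotentLength
import Cfsg.Agent.Lib.Characters.Ito
import Cfsg.Agent.Lib.Characters.ItoMichlerPSolvable
import Cfsg.Agent.Lib.Characters.Scalar
import Cfsg.Agent.Lib.Chars17.Constituents
import Cfsg.Agent.Lib.Chars17.PGroupGalois

/-!
Groups whose irreducible degrees are `1` and a prime `p`: an abelian normal subgroup of index `p`
or a centre of index `p ^ 3`.
-/

set_option autoImplicit false
set_option linter.unusedSectionVars false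
set_option linter.style.haveILetI false

noncomputable section

namespace CfsgLib.OnePrimeDegree

open Cfsg CfsgLib.Characters CfsgLib.Chars17
open scoped ComplexConjugate

universe u

variable {G : Type u} [Group G] [Finite G] {p : ℕ}

/-- The square of a degree is at most the index of the centre. -/
theorem degree_sq_le (χ : IrrCharacter G) :
    charDegree (χ : G → ℂ) ^ 2 ≤ (Subgroup.center G).index := by
  classical
  haveI := Fintype.ofFinite G
  set Z := Subgroup.center G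
  obtain ⟨n, ρ, hρ, hρc⟩ := χ.2
  haveI := hρ
  have hn : charDegree (χ : G → ℂ) = n := by
    simp [charDegree, ← hρc, Representation.char_one]
  have hz : ∀ z ∈ Z, Complex.normSq ((χ : G → ℂ) z) = (n : ℝ) ^ 2 := by
    intro z hz
    obtain ⟨c, hc⟩ := CfsgLib.CharScalar.center_scalar ρ hz
    have hv : (χ : G → ℂ) z = c * n := by
      rw [← hρc, Representation.character, hc, map_smul, LinearMap.trace_one,
        Module.finrank_fin_fun, smul_eq_mul]
    rcases Nat.eq_zero_or_pos n with h0 | h0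
    · simp [hv, h0]
    · have hpow : c ^ Nat.card G = 1 := by
        have h1 := congrArg ρ (pow_card_eq_one' (x := z))
        rw [map_pow, hc, smul_pow, one_pow, map_one] at h1
        have h2 := congrArg (LinearMap.trace ℂ (Fin n → ℂ)) h1
        rw [map_smul, LinearMap.trace_one, Module.finrank_fin_fun, smul_eq_mul] at h2
        exact (mul_eq_right₀ (Nat.cast_ne_zero.2 h0.ne')).1 h2
      rw [hv, Complex.normSq_mul, Complex.normSq_eq_norm_sq,
        Complex.norm_eq_one_of_pow_eq_one hpow Nat.card_pos.ne', Complex.normSq_natCast]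
      ring
  have h := classInner_irr_self χ.2
  rw [classInner, inv_mul_eq_iff_eq_mul₀ (Nat.cast_ne_zero.2 Nat.card_pos.ne'), mul_one,
    Finset.sum_congr rfl (fun g _ => Complex.mul_conj ((χ : G → ℂ) g))] at h
  have h2 : ∑ g : G, Complex.normSq ((χ : G → ℂ) g) = (Nat.card G : ℝ) := by exact_mod_cast h
  have h3 : (Nat.card Z : ℝ) * (n : ℝ) ^ 2 ≤ (Nat.card G : ℝ) := by
    rw [← h2]
    refine le_trans (le_of_eq ?_) (Finset.sum_le_sum_of_subset_of_nonneg
      (Finset.subset_univ (Finset.univ.filter fun g : G => g ∈ Z))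
      fun g _ _ => Complex.normSq_nonneg _)
    rw [Finset.sum_congr rfl fun g hg => hz g (Finset.mem_filter.1 hg).2, Finset.sum_const,
      nsmul_eq_mul, Nat.card_eq_fintype_card, Fintype.card_subtype]
  rw [← Z.card_mul_index] at h3
  push_cast at h3
  rw [hn]
  exact_mod_cast le_of_mul_le_mul_left h3 (by exact_mod_cast Nat.card_pos)

/-- A prime order element powering into a subgroup not containing it. -/
theorem pow_eq_one_of_mem {W : Type*} [Group W] (hp : p.Prime) {u : W} (hu : u ^ p = 1)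
    {S : Subgroup W} (hnot : u ∉ S) {n : ℤ} (h : u ^ n ∈ S) : (p : ℤ) ∣ n ∧ u ^ n = 1 := by
  have hd : (p : ℤ) ∣ n := by
    by_contra hd
    obtain ⟨a, b, hab⟩ : IsCoprime (p : ℤ) n :=
      (Nat.prime_iff_prime_int.1 hp).coprime_iff_not_dvd.2 hd
    refine hnot ?_
    have e : u = (u ^ n) ^ b := by
      conv_lhs => rw [← zpow_one u, ← hab, zpow_add, mul_comm a, zpow_mul, zpow_natCast, hu,
        one_zpow, one_mul, mul_comm b, zpow_mul]
    rw [e]
    exact S.zpow_mem h b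
  refine ⟨hd, ?_⟩
  obtain ⟨c, hc⟩ := hd
  rw [hc, zpow_mul, zpow_natCast, hu, one_zpow]

/-- The converse direction. -/
theorem degrees_of_structure (hp : p.Prime)
    (h : (∃ A : Subgroup G, A.Normal ∧ (∀ a ∈ A, ∀ b ∈ A, a * b = b * a) ∧ A.index = p) ∨
      (Subgroup.center G).index = p ^ 3) (χ : IrrCharacter G) :
    charDegree (χ : G → ℂ) = 1 ∨ charDegree (χ : G → ℂ) = p := by
  rcases h with ⟨A, hA, hab, hidx⟩ | hZ
  · obtain ⟨d, hd, hdvd⟩ := CfsgLib.CharIto.degree_dvd_index_of_abelian_normal χ.2 A hA hab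
    rw [CfsgLib.LinearTwist.charDegree_eq_of_apply_one hd]
    rw [hidx] at hdvd
    exact hp.eq_one_or_self_of_dvd d hdvd
  · obtain ⟨d, hd, hdvd⟩ := CfsgLib.CharIto.degree_dvd_index_of_abelian_normal χ.2
      (Subgroup.center G) inferInstance fun a _ b hb => Subgroup.mem_center_iff.1 hb a
    have hsq := degree_sq_le χ
    rw [CfsgLib.LinearTwist.charDegree_eq_of_apply_one hd] at hsq ⊢
    rw [hZ] at hdvd hsq
    obtain ⟨i, -, rfl⟩ := (Nat.dvd_prime_pow hp).1 hdvd
    have hi : i * 2 ≤ 3 := by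
      rw [← pow_mul] at hsq
      exact (Nat.pow_le_pow_iff_right hp.one_lt).1 hsq
    have hi1 : i ≤ 1 := by omega
    interval_cases i
    · exact Or.inl (pow_zero p)
    · exact Or.inr (pow_one p)

theorem rearr {W : Type*} [CommGroup W] {g u v : W} {b a i j : ℤ}
    (h : g ^ b * v ^ a = (g * u) ^ i * v ^ j) : g ^ (b - i) = u ^ i * v ^ (j - a) := by
  rw [mul_zpow] at h
  rw [zpow_sub, zpow_sub, eq_mul_inv_of_mul_eq h, mul_inv_eq_iff_eq_mul]
  ac_rfl

theorem rearr' {W : Type*} [CommGroup W] {g u v : W} {b i j : ℤ}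
    (h : v ^ b = g ^ i * (v * u) ^ j) : g ^ (-i) = u ^ j * v ^ (j - b) := by
  rw [mul_zpow] at h
  rw [zpow_sub, zpow_neg, inv_eq_iff_mul_eq_one, h, mul_inv_rev, mul_inv_rev]
  have : ∀ x y z : W, x * (y * (z * (y⁻¹ * z⁻¹ * x⁻¹))) = 1 := fun x y z => by
    rw [mul_assoc, mul_left_comm z y⁻¹, mul_inv_cancel_left, mul_inv_cancel_left, mul_inv_cancel]
  exact this _ _ _

section Setup

variable (hp : p.Prime) (hdeg : ∀ χ : IrrCharacter G, charDegree (χ : G → ℂ) = 1 ∨
    charDegree (χ : G → ℂ) = p) (A : Subgroup G) [hA : A.Normal] [IsMulCommutative A]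
  (hsc : ∀ g : G, (∀ a ∈ A, g * a = a * g) → g ∈ A) (hq : IsPGroup p (G ⧸ A))

open CfsgLib.NilpotentLength (conjAct conjAct_apply conjAct_mul conjAct_one conjAct_map_mul
  conjAct_map_inv)

/-- The stabiliser of a linear character. -/
def fixer (u : A →* ℂˣ) : Subgroup G where
  carrier := {g | conjAct A g u = u}
  one_mem' := conjAct_one A u
  mul_mem' := fun {a b} (ha : _ = u) (hb : _ = u) => by
    show _ = u
    rw [conjAct_mul, ha, hb]
  inv_mem' := fun {a} (ha : _ = u) => by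
    show _ = u
    conv_lhs => rw [← ha]
    rw [← conjAct_mul, mul_inv_cancel, conjAct_one]

theorem mem_fixer {u : A →* ℂˣ} {g : G} : g ∈ fixer A u ↔ conjAct A g u = u := Iff.rfl

omit [Finite G] in
theorem hom_one_mul (u : A →* ℂˣ) : 1 * u = u := one_mul u

omit [Finite G] in
theorem hom_mul_one (u : A →* ℂˣ) : u * 1 = u := mul_one u

omit [Finite G] in
theorem hom_pow_zero (u : A →* ℂˣ) : u ^ 0 = 1 := pow_zero u

omit [Finite G] in
theorem hom_pow_succ (u : A →* ℂˣ) (i : ℕ) : u ^ (i + 1) = u ^ i * u := pow_succ u i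

omit [Finite G] in
theorem hom_eq_inv {u w : A →* ℂˣ} (h : u * w = 1) : u = w⁻¹ :=
  MonoidHom.ext fun a => eq_inv_of_mul_eq_one_left (DFunLike.congr_fun h a :)

omit [Finite G] in
theorem hom_eq_inv' {u w : A →* ℂˣ} (h : u * w = 1) : w = u⁻¹ :=
  MonoidHom.ext fun a => eq_inv_of_mul_eq_one_right (DFunLike.congr_fun h a :)

theorem le_fixer (u : A →* ℂˣ) : A ≤ fixer A u := fun a ha => by
  refine MonoidHom.ext fun m => ?_
  rw [conjAct_apply]
  refine congrArg u (Subtype.ext ?_)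
  have hm : a * (m : G) = (m : G) * a :=
    congrArg Subtype.val (IsMulCommutative.is_comm.comm (⟨a, ha⟩ : A) m)
  show a * (m : G) * a⁻¹ = m
  rw [hm, mul_inv_cancel_right]

include hp hdeg

/-- The stabiliser has index at most `p`, and then the character extends. -/
theorem fixer_cases (u : A →* ℂˣ) :
    fixer A u = ⊤ ∨ ((fixer A u).index = p ∧ ∀ g ∈ fixer A u, ∀ h ∈ fixer A u,
      ∀ hc : g * h * g⁻¹ * h⁻¹ ∈ A, u ⟨_, hc⟩ = 1) := by
  classical
  haveI := Fintype.ofFinite G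
  haveI := Fintype.ofFinite A
  let θ : IrrCharacter A := ⟨_, isIrrCharacter_of_hom u⟩
  have hT : fixer A u = CfsgLib.Clifford.inertia hA (θ : A → ℂ) := by
    ext g
    rw [mem_fixer, CfsgLib.Clifford.mem_inertia]
    refine ⟨fun h n => ?_, fun h => MonoidHom.ext fun n => Units.ext ?_⟩
    · have := DFunLike.congr_fun h n
      rw [conjAct_apply] at this
      exact congrArg Units.val this
    · rw [conjAct_apply]
      exact h n
  obtain ⟨χ, hχ⟩ := CfsgLib.NormalRes.exists_mult_ne_zero_of_irr A θ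
  obtain ⟨e, he⟩ := CfsgLib.NormalRes.mult_nat A (irr_isCharacter χ) θ
  have hd := CfsgLib.Clifford.clifford_degree hA χ.2 θ.2 hχ
  rw [show classInner (fun n : A => (χ : G → ℂ) n) (θ : A → ℂ) = (e : ℂ) from he,
    ← cast_irrDegree χ, show (θ : A → ℂ) 1 = 1 from (congrArg Units.val (map_one u)).trans rfl,
    mul_one, ← hT, ← Nat.cast_mul, Nat.cast_inj] at hd
  have hdvd : (fixer A u).index ∣ charDegree (χ : G → ℂ) := hd ▸ dvd_mul_left _ _
  have h1 : (fixer A u).index = 1 ∨ (fixer A u).index = p := by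
    rcases hdeg χ with h | h <;> rw [h] at hdvd
    · exact Or.inl (Nat.dvd_one.1 hdvd)
    · exact hp.eq_one_or_self_of_dvd _ hdvd
  rcases h1 with h1 | h1
  · exact Or.inl (Subgroup.index_eq_one.1 h1)
  refine Or.inr ⟨h1, fun g hg h hh hc => ?_⟩
  set T := fixer A u
  haveI := Fintype.ofFinite T
  obtain ⟨ψ, hψ, hψind, hψθ⟩ := CfsgLib.Clifford.correspondence hA θ.2 T hT (le_fixer A u) χ.2 hχ
  have hψd : charDegree ψ = 1 := by
    have h2 := charDegree_indFun T (isCharacter_of_irr hψ)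
    rw [hψind, h1] at h2
    have h3 : charDegree (χ : G → ℂ) ≤ p := by
      rcases hdeg χ with h | h <;> rw [h]
      exact hp.pos
    rw [h2] at h3
    have := irrDegree_pos (⟨ψ, hψ⟩ : IrrCharacter T)
    have h4 : charDegree ψ ≤ 1 := Nat.le_of_mul_le_mul_left (by rw [mul_one]; exact h3) hp.pos
    exact le_antisymm h4 this
  let ι : A →* T := Subgroup.inclusion (le_fixer A u)
  have hres : (fun n : A => ψ (ι n)) = (θ : A → ℂ) := by
    refine eq_of_classInner_ne_of_degree_le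
      (CfsgLib.Clifford.isCharacter_pullback (isCharacter_of_irr hψ) ι) θ (by
        show classInner (fun n : A => ψ ⟨(n : G), le_fixer A u n.2⟩) (θ : A → ℂ) ≠ 0
        rw [hψθ]; exact hχ) ?_
    rw [show charDegree (fun n : A => ψ (ι n)) = charDegree ψ by simp [charDegree], hψd]
    exact irrDegree_pos θ
  obtain ⟨f, hf⟩ := CfsgLib.LinearExt.exists_unitsHom (isCharacter_of_irr hψ) (by
    rw [← cast_charDegree (isCharacter_of_irr hψ), hψd, Nat.cast_one])
  have e1 : ι ⟨_, hc⟩ = ⟨g, hg⟩ * ⟨h, hh⟩ * (⟨g, hg⟩ : T)⁻¹ * (⟨h, hh⟩ : T)⁻¹ := Subtype.ext rfl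
  refine Units.ext ?_
  show (θ : A → ℂ) ⟨_, hc⟩ = ((1 : ℂˣ) : ℂ)
  rw [← congrFun hres ⟨_, hc⟩, hf]
  show ((f (ι ⟨_, hc⟩) : ℂˣ) : ℂ) = _
  rw [e1, map_mul, map_mul, map_mul, map_inv, map_inv, mul_comm (f ⟨g, hg⟩), mul_inv_cancel_right,
    mul_inv_cancel]

include hq

/-- Stabilisers are normal with commutators and `p`-th powers inside. -/
theorem fixer_normal (u : A →* ℂˣ) :
    (∀ g h : G, g * h * g⁻¹ * h⁻¹ ∈ fixer A u) ∧ ∀ g : G, g ^ p ∈ fixer A u := by
  haveI := Fact.mk hp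
  rcases fixer_cases hp hdeg A u with h | ⟨h, -⟩
  · exact ⟨fun _ _ => h ▸ Subgroup.mem_top _, fun _ => h ▸ Subgroup.mem_top _⟩
  set T := fixer A u
  have hAT : A ≤ T := le_fixer A u
  have hker : (QuotientGroup.mk' A).ker ≤ T := by rw [QuotientGroup.ker_mk']; exact hAT
  haveI hTn : T.Normal := by
    have hi : (T.map (QuotientGroup.mk' A)).index = p := by
      rw [Subgroup.index_map_eq T (QuotientGroup.mk'_surjective A) hker, h]
    have hn : (T.map (QuotientGroup.mk' A)).Normal := by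
      refine Subgroup.normal_of_index_eq_minFac_card ?_
      obtain ⟨k, hk⟩ := IsPGroup.iff_card.1 hq
      have hk0 : k ≠ 0 := fun e => hp.one_lt.not_ge (Nat.le_of_dvd Nat.one_pos (by
        have h' := (T.map (QuotientGroup.mk' A)).index_dvd_card
        rwa [hi, hk, e, pow_zero] at h'))
      rw [hi, hk, Nat.pow_minFac hk0, hp.minFac_eq]
    have := hn.comap (QuotientGroup.mk' A)
    rwa [Subgroup.comap_map_eq, sup_eq_left.2 hker] at this
  have hcard : Nat.card (G ⧸ T) = p := by rw [← Subgroup.index_eq_card, h]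
  haveI : IsCyclic (G ⧸ T) := isCyclic_of_prime_card hcard
  refine ⟨fun g k => ?_, fun g => ?_⟩
  · rw [← QuotientGroup.eq_one_iff]
    have hgk : ∀ a b : G ⧸ T, a * b = b * a := fun a b =>
      (IsCyclic.commGroup (α := G ⧸ T)).mul_comm a b
    rw [QuotientGroup.mk_mul, QuotientGroup.mk_mul, QuotientGroup.mk_mul, QuotientGroup.mk_inv,
      QuotientGroup.mk_inv, hgk (g : G ⧸ T), mul_inv_cancel_right, mul_inv_cancel]
  · rw [← QuotientGroup.eq_one_iff, QuotientGroup.mk_pow, ← hcard, pow_card_eq_one']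

include hsc

/-- What fixes every linear character lies in `A`. -/
theorem mem_of_forall_fixer {g : G} (h : ∀ u : A →* ℂˣ, g ∈ fixer A u) : g ∈ A := by
  refine hsc g fun a ha => ?_
  letI : CommGroup A := { (inferInstance : Group A) with mul_comm := IsMulCommutative.is_comm.comm }
  by_contra hne
  have hne' : (⟨g * a * g⁻¹, hA.conj_mem a ha g⟩ : A) * (⟨a, ha⟩ : A)⁻¹ ≠ 1 := fun e => hne (by
    have e1 := congrArg Subtype.val (mul_inv_eq_one.1 e)
    exact mul_inv_eq_iff_eq_mul.1 e1)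
  obtain ⟨u, hu⟩ := CommGroup.exists_apply_ne_one_of_hasEnoughRootsOfUnity A ℂ hne'
  refine hu ?_
  have h1 := DFunLike.congr_fun ((mem_fixer A).1 (h u)) ⟨a, ha⟩
  rw [conjAct_apply] at h1
  rw [map_mul, map_inv, h1, mul_inv_cancel]

theorem commutator_mem (g h : G) : g * h * g⁻¹ * h⁻¹ ∈ A :=
  mem_of_forall_fixer hp hdeg A hsc hq fun u => (fixer_normal hp hdeg A hq u).1 g h

theorem pow_prime_mem (g : G) : g ^ p ∈ A :=
  mem_of_forall_fixer hp hdeg A hsc hq fun u => (fixer_normal hp hdeg A hq u).2 g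

/-- The displacement. -/
abbrev dis (g : G) (u : A →* ℂˣ) : A →* ℂˣ := conjAct A g u * u⁻¹

theorem act_comm (g h : G) (u : A →* ℂˣ) :
    conjAct A g (conjAct A h u) = conjAct A h (conjAct A g u) := by
  rw [← conjAct_mul, ← conjAct_mul,
    show h * g = h * g * h⁻¹ * g⁻¹ * (g * h) by group, conjAct_mul,
    (mem_fixer A).1 (le_fixer A u (commutator_mem hp hdeg A hsc hq h g))]

omit hp hdeg hsc hq in
theorem dis_eq_one {g : G} {u : A →* ℂˣ} : dis A g u = 1 ↔ g ∈ fixer A u := by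
  exact (mul_inv_eq_one (G := A →* ℂˣ)).trans (mem_fixer A).symm

theorem dis_fixed {h : G} {u : A →* ℂˣ} (hh : h ∈ fixer A u) (g : G) :
    conjAct A h (dis A g u) = dis A g u := by
  show conjAct A h (conjAct A g u * u⁻¹) = conjAct A g u * u⁻¹
  rw [conjAct_map_mul, conjAct_map_inv, act_comm hp hdeg A hsc hq, (mem_fixer A).1 hh]

omit hp hdeg hsc hq in
theorem dis_mul (g h : G) (u : A →* ℂˣ) :
    dis A (g * h) u = conjAct A h (dis A g u) * dis A h u := by
  show conjAct A (g * h) u * u⁻¹ =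
    conjAct A h (conjAct A g u * u⁻¹) * (conjAct A h u * u⁻¹)
  rw [conjAct_map_mul, conjAct_map_inv, conjAct_mul]
  ext a
  simp [mul_assoc]

omit hp hdeg hsc hq in
theorem dis_map_mul (g : G) (u w : A →* ℂˣ) : dis A g (u * w) = dis A g u * dis A g w := by
  show conjAct A g (u * w) * (u * w)⁻¹ = (conjAct A g u * u⁻¹) * (conjAct A g w * w⁻¹)
  rw [conjAct_map_mul]
  ext a
  simp only [MonoidHom.mul_apply, MonoidHom.inv_apply, mul_inv_rev, Units.val_mul]
  ring

theorem sup_eq_top {T : Subgroup G} (hT : T.index = p) {e : G} (he : e ∉ T) :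
    T ⊔ Subgroup.zpowers e = ⊤ := by
  by_contra hne
  have hle : T ≤ T ⊔ Subgroup.zpowers e := le_sup_left
  have hd := Subgroup.index_dvd_of_le hle
  rw [hT] at hd
  rcases hp.eq_one_or_self_of_dvd _ hd with h | h
  · exact hne (Subgroup.index_eq_one.1 h)
  · have h2 : T = T ⊔ Subgroup.zpowers e := by
      refine Subgroup.eq_of_le_of_card_ge hle (le_of_eq ?_)
      have h3 := (T ⊔ Subgroup.zpowers e).card_mul_index
      rw [← T.card_mul_index, h, hT] at h3
      exact mul_right_cancel₀ hp.ne_zero h3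
    exact he (h2.symm ▸ Subgroup.mem_sup_right (Subgroup.mem_zpowers e))

/-- Two different stabilisers: the displacement is fixed by `G`. -/
theorem dis_invariant {v w : A →* ℂˣ} (hv : (fixer A v).index = p) (hw : (fixer A w).index = p)
    (hne : fixer A v ≠ fixer A w) {e h : G} (he1 : e ∈ fixer A w) (he2 : e ∉ fixer A v)
    (hh1 : h ∈ fixer A v) (hh2 : h ∉ fixer A w) :
    ∃ j : ℤ, dis A e v = (dis A (h ^ j) w)⁻¹ ∧ ∀ g, conjAct A g (dis A e v) = dis A e v := by
  set u := v * w with hu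
  have hhu : h ∉ fixer A u := fun hh => by
    refine hh2 ((dis_eq_one A).1 ?_)
    have h1 := (dis_eq_one A).2 hh
    rw [dis_map_mul, (dis_eq_one A).2 hh1, hom_one_mul] at h1
    exact h1
  have hidx : (fixer A u).index = p :=
    (fixer_cases hp hdeg A u).resolve_left (fun e => hhu (e ▸ Subgroup.mem_top h)) |>.1
  haveI : (fixer A u).Normal := by
    refine ⟨fun x hx g => ?_⟩
    rw [show g * x * g⁻¹ = g * x * g⁻¹ * x⁻¹ * x by group]
    exact (fixer A u).mul_mem ((fixer_normal hp hdeg A hq u).1 g x) hx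
  obtain ⟨t, ht, s, hs, hts⟩ := Subgroup.mem_sup_of_normal_left.1
    (sup_eq_top hp hdeg A hsc hq hidx hhu ▸ Subgroup.mem_top e)
  obtain ⟨i, rfl⟩ := Subgroup.mem_zpowers_iff.1 hs
  have hj : e * h ^ (-i) ∈ fixer A u := by
    rw [← hts, mul_assoc, ← zpow_add, add_neg_cancel, zpow_zero, mul_one]
    exact ht
  have hhv : h ^ (-i) ∈ fixer A v := Subgroup.zpow_mem _ hh1 _
  have hkey : dis A e v * dis A (h ^ (-i)) w = 1 := by
    have h1 := (dis_eq_one A).2 hj
    rw [dis_map_mul, dis_mul A e (h ^ (-i)) v, dis_fixed hp hdeg A hsc hq hhv,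
      (dis_eq_one A).2 hhv, dis_mul A e (h ^ (-i)) w, (dis_eq_one A).2 he1] at h1
    rw [show conjAct A (h ^ (-i)) (1 : A →* ℂˣ) = 1 from MonoidHom.ext fun m => by
      simp [conjAct_apply]] at h1
    rw [hom_mul_one, hom_one_mul] at h1
    exact h1
  refine ⟨-i, hom_eq_inv A hkey, fun g => ?_⟩
  set S := fixer A (dis A e v)
  have h1 : fixer A v ≤ S := fun x hx => dis_fixed hp hdeg A hsc hq hx e
  have h2 : fixer A w ≤ S := fun x hx => by
    show conjAct A x (dis A e v) = _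
    rw [hom_eq_inv A hkey, conjAct_map_inv, dis_fixed hp hdeg A hsc hq hx]
  have h3 : e ∈ S := h2 he1
  have h4 : (⊤ : Subgroup G) ≤ S := by
    rw [← sup_eq_top hp hdeg A hsc hq hv he2]
    exact sup_le h1 (Subgroup.zpowers_le.2 h3)
  exact h4 (Subgroup.mem_top g)

omit hp hdeg hsc hq in
theorem dis_mem_zpowers {T : Subgroup G} {u c : A →* ℂˣ} {e : G}
    (hgen : T ⊔ Subgroup.zpowers e = ⊤) (hT : T ≤ fixer A u) (hce : dis A e u ∈ Subgroup.zpowers c)
    (hfix : ∀ g, conjAct A g c = c) (g : G) : dis A g u ∈ Subgroup.zpowers c := by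
  have hfix' : ∀ (g : G), ∀ a ∈ Subgroup.zpowers c, conjAct A g a = a := by
    rintro g a ⟨i, rfl⟩
    let f : (A →* ℂˣ) →* (A →* ℂˣ) := MonoidHom.mk' (conjAct A g) (conjAct_map_mul A g)
    exact (map_zpow f c i).trans (congrArg (· ^ i) (hfix g))
  let S : Subgroup G :=
    { carrier := {g | dis A g u ∈ Subgroup.zpowers c}
      one_mem' := by
        show dis A 1 u ∈ Subgroup.zpowers c
        rw [(dis_eq_one A).2 (fixer A u).one_mem]; exact one_mem _
      mul_mem' := fun {a b} ha hb => by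
        show dis A (a * b) u ∈ Subgroup.zpowers c
        rw [dis_mul, hfix' b _ ha]
        exact mul_mem ha hb
      inv_mem' := fun {a} ha => by
        have h1 := dis_mul A a a⁻¹ u
        rw [mul_inv_cancel, (dis_eq_one A).2 (fixer A u).one_mem, hfix' _ _ ha] at h1
        show dis A a⁻¹ u ∈ Subgroup.zpowers c
        rw [hom_eq_inv' A h1.symm]
        exact inv_mem ha }
  have : (⊤ : Subgroup G) ≤ S := by
    rw [← hgen]
    refine sup_le (fun x hx => ?_) (Subgroup.zpowers_le.2 hce)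
    show dis A x u ∈ Subgroup.zpowers c
    rw [(dis_eq_one A).2 (hT hx)]
    exact one_mem _
  exact this (Subgroup.mem_top g)

/-- The centre has index `p` in `A`. -/
theorem exists_central_hom (hA1 : A ≠ ⊤) (hA2 : A.index ≠ p) :
    ∃ c : A →* ℂˣ, c ^ p = 1 ∧ c ≠ 1 ∧ (∀ g, conjAct A g c = c) ∧
      ∀ a : A, c a = 1 ↔ (a : G) ∈ Subgroup.center G := by
  have hmoved : ∀ u, fixer A u ≠ ⊤ → (fixer A u).index = p := fun u h =>
    ((fixer_cases hp hdeg A u).resolve_left h).1
  obtain ⟨v, hv⟩ : ∃ v, fixer A v ≠ ⊤ := by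
    by_contra h
    push Not at h
    exact hA1 (top_le_iff.1 fun g _ =>
      mem_of_forall_fixer hp hdeg A hsc hq fun u => h u ▸ Subgroup.mem_top g)
  have hother : ∀ v, fixer A v ≠ ⊤ → ∃ w, fixer A w ≠ ⊤ ∧ fixer A w ≠ fixer A v := by
    intro v hv
    by_contra h
    push Not at h
    refine hA2 ?_
    rw [show A = fixer A v from le_antisymm (le_fixer A v) fun g hg =>
      mem_of_forall_fixer hp hdeg A hsc hq fun u => ?_, hmoved v hv]
    by_cases hu : fixer A u = ⊤
    · exact hu ▸ Subgroup.mem_top g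
    · exact h u hu ▸ hg
  have hnle : ∀ a b, fixer A a ≠ ⊤ → fixer A b ≠ ⊤ → fixer A a ≠ fixer A b →
      ∃ h, h ∈ fixer A a ∧ h ∉ fixer A b := by
    intro a b ha hb hab
    by_contra h
    push Not at h
    refine hab (Subgroup.eq_of_le_of_card_ge h (le_of_eq ?_))
    have h3 := (fixer A b).card_mul_index
    rw [← (fixer A a).card_mul_index, hmoved a ha, hmoved b hb] at h3
    exact mul_right_cancel₀ hp.ne_zero h3
  -- for different stabilisers the displacements agree up to powers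
  have hpair : ∀ a b, fixer A a ≠ ⊤ → fixer A b ≠ ⊤ → fixer A a ≠ fixer A b →
      ∀ g, dis A g b ∈ Subgroup.zpowers (dis A g b) ∧ ∀ e, e ∈ fixer A b → e ∉ fixer A a →
        ∀ h, h ∈ fixer A a → h ∉ fixer A b →
          dis A g a ∈ Subgroup.zpowers (dis A h b) ∧ ∀ k, conjAct A k (dis A h b) = dis A h b := by
    intro a b ha hb hab g
    refine ⟨Subgroup.mem_zpowers _, fun e he1 he2 h hh1 hh2 => ?_⟩
    obtain ⟨j, hj, hfe⟩ := dis_invariant hp hdeg A hsc hq (hmoved a ha) (hmoved b hb) hab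
      he1 he2 hh1 hh2
    obtain ⟨-, -, hfh⟩ := dis_invariant hp hdeg A hsc hq (hmoved b hb) (hmoved a ha) hab.symm
      hh1 hh2 he1 he2
    refine ⟨?_, hfh⟩
    refine dis_mem_zpowers A (sup_eq_top hp hdeg A hsc hq (hmoved a ha) he2) le_rfl ?_ hfh g
    rw [hj]
    refine inv_mem (dis_mem_zpowers A (sup_eq_top hp hdeg A hsc hq (hmoved b hb) hh2) le_rfl
      (Subgroup.mem_zpowers _) hfh _)
  obtain ⟨w, hw, hwv⟩ := hother v hv
  obtain ⟨e, he1, he2⟩ := hnle w v hw hv hwv
  obtain ⟨h, hh1, hh2⟩ := hnle v w hv hw hwv.symm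
  obtain ⟨-, hfc⟩ := (hpair w v hw hv hwv 1).2 h hh1 hh2 e he1 he2
  set c := dis A e v with hc
  have hall : ∀ u g, dis A g u ∈ Subgroup.zpowers c := by
    intro u g
    by_cases hu : fixer A u = ⊤
    · rw [(dis_eq_one A).2 (hu ▸ Subgroup.mem_top g)]; exact one_mem _
    by_cases huv : fixer A u = fixer A v
    · have huw : fixer A u ≠ fixer A w := fun h' => hwv (h'.symm.trans huv)
      have h1 := ((hpair u w hu hw huw g).2 e he1 (huv ▸ he2) h (huv ▸ hh1) hh2).1
      have h2 := ((hpair w v hw hv hwv h).2 h hh1 hh2 e he1 he2).1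
      exact (Subgroup.zpowers_le.2 h2) h1
    · obtain ⟨f, hf1, hf2⟩ := hnle u v hu hv huv
      obtain ⟨k, hk1, hk2⟩ := hnle v u hv hu (Ne.symm huv)
      have h1 := ((hpair u v hu hv huv g).2 k hk1 hk2 f hf1 hf2).1
      have h2 : dis A f v ∈ Subgroup.zpowers c :=
        dis_mem_zpowers A (sup_eq_top hp hdeg A hsc hq (hmoved v hv) he2) le_rfl
          (Subgroup.mem_zpowers _) hfc f
      exact (Subgroup.zpowers_le.2 h2) h1
  refine ⟨c, ?_, fun h' => he2 ((dis_eq_one A).1 h'), hfc, fun a => ⟨fun ha => ?_, fun ha => ?_⟩⟩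
  · have hpow : ∀ i : ℕ, dis A (e ^ i) v = c ^ i := by
      intro i
      induction i with
      | zero => rw [pow_zero, hom_pow_zero, (dis_eq_one A).2 (fixer A v).one_mem]
      | succ i ih =>
        have hfx : conjAct A e (c ^ i) = c ^ i := by
          let f : (A →* ℂˣ) →* (A →* ℂˣ) := MonoidHom.mk' (conjAct A e) (conjAct_map_mul A e)
          exact (map_pow f c i).trans (congrArg (· ^ i) (hfc e))
        rw [pow_succ, dis_mul, ih, hfx, hom_pow_succ, ← hc]
    rw [← hpow, (dis_eq_one A).2 (le_fixer A v (pow_prime_mem hp hdeg A hsc hq e))]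
  · letI : CommGroup A :=
      { (inferInstance : Group A) with mul_comm := IsMulCommutative.is_comm.comm }
    refine Subgroup.mem_center_iff.2 fun g => ?_
    by_contra hne
    have hne' : (⟨g * a * g⁻¹, hA.conj_mem (a : G) a.2 g⟩ : A) * a⁻¹ ≠ 1 := fun e => hne (by
      have e1 := congrArg Subtype.val (mul_inv_eq_one.1 e)
      exact mul_inv_eq_iff_eq_mul.1 e1)
    obtain ⟨u, hu⟩ := CommGroup.exists_apply_ne_one_of_hasEnoughRootsOfUnity A ℂ hne'
    refine hu ?_
    obtain ⟨i, hi⟩ := hall u g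
    have h1 := DFunLike.congr_fun hi a
    simp only [MonoidHom.mul_apply, MonoidHom.inv_apply, conjAct_apply] at h1
    rw [map_mul, map_inv, ← h1]
    show (c ^ i) a = 1
    rw [show (c ^ i) a = (c a) ^ i from rfl, ha, one_zpow]
  · rw [hc, dis, MonoidHom.mul_apply, MonoidHom.inv_apply, conjAct_apply, mul_inv_eq_one]
    refine congrArg v (Subtype.ext ?_)
    show e * (a : G) * e⁻¹ = a
    rw [Subgroup.mem_center_iff.1 ha e, mul_inv_cancel_right]

/-- The structure above a maximal abelian normal subgroup of index at least `p ^ 2`. -/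
theorem structure_of_index (hA1 : A ≠ ⊤) (hA2 : A.index ≠ p) :
    (∃ H : Subgroup G, H.Normal ∧ (∀ a ∈ H, ∀ b ∈ H, a * b = b * a) ∧ H.index = p) ∨
      (Subgroup.center G).index = p ^ 3 := by
  classical
  haveI := Fact.mk hp
  letI : CommGroup A :=
    { (inferInstance : Group A) with mul_comm := IsMulCommutative.is_comm.comm }
  obtain ⟨c, hcp, hc1, hcinv, hcker⟩ := exists_central_hom hp hdeg A hsc hq hA1 hA2
  set Z := Subgroup.center G with hZ
  letI : CommGroup Z := { (inferInstance : Group Z) with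
    mul_comm := fun a b => Subtype.ext (Subgroup.mem_center_iff.1 b.2 a) }
  have hZA : Z ≤ A := fun z hz => hsc z fun a _ => (Subgroup.mem_center_iff.1 hz a).symm
  obtain ⟨x, hx⟩ : ∃ x : A, c x ≠ 1 := by
    by_contra h
    push Not at h
    exact hc1 (MonoidHom.ext h)
  have hcpow : ∀ a, c a ^ p = 1 := fun a => DFunLike.congr_fun hcp a
  have hord : orderOf (c x) = p := orderOf_eq_prime (hcpow x) hx
  have hdec : ∀ a : A, ∃ (i : ℤ) (z : A), (z : G) ∈ Z ∧ a = x ^ i * z := by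
    intro a
    have hprim : IsPrimitiveRoot ((c x : ℂˣ) : ℂ) p := by
      rw [← hord, ← orderOf_units]
      exact IsPrimitiveRoot.orderOf _
    haveI : NeZero p := ⟨hp.ne_zero⟩
    obtain ⟨i, -, hi⟩ := hprim.eq_pow_of_pow_eq_one (ξ := ((c a : ℂˣ) : ℂ))
      (by rw [← Units.val_pow_eq_pow_val, hcpow, Units.val_one])
    have hi' : c x ^ i = c a := Units.ext (by rw [Units.val_pow_eq_pow_val, hi])
    refine ⟨i, (x ^ i)⁻¹ * a, (hcker _).1 ?_, by rw [zpow_natCast, mul_inv_cancel_left]⟩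
    rw [map_mul, map_inv, map_pow, hi', inv_mul_cancel]
  -- `φ g = [g, x]` is central
  have hphi : ∀ g : G, g * x * g⁻¹ * (x : G)⁻¹ ∈ Z := fun g => by
    refine (hcker ⟨_, A.mul_mem (hA.conj_mem (x : G) x.2 g) (A.inv_mem x.2)⟩).1 ?_
    have h1 := DFunLike.congr_fun (hcinv g) x
    rw [conjAct_apply] at h1
    rw [show (⟨_, A.mul_mem (hA.conj_mem (x : G) x.2 g) (A.inv_mem x.2)⟩ : A) =
      ⟨g * x * g⁻¹, hA.conj_mem (x : G) x.2 g⟩ * x⁻¹ from rfl, map_mul, map_inv, h1, mul_inv_cancel]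
  let φ : G →* Z := MonoidHom.mk' (fun g => ⟨g * x * g⁻¹ * (x : G)⁻¹, hphi g⟩) fun g k => by
    refine Subtype.ext ?_
    show g * k * x * (g * k)⁻¹ * (x : G)⁻¹ = (g * x * g⁻¹ * (x : G)⁻¹) * (k * x * k⁻¹ * (x : G)⁻¹)
    rw [Subgroup.mem_center_iff.1 (hphi k) (g * x * g⁻¹ * (x : G)⁻¹),
      show g * k * x * (g * k)⁻¹ * (x : G)⁻¹ =
        (g * (k * x * k⁻¹ * (x : G)⁻¹)) * x * g⁻¹ * (x : G)⁻¹ by group,
      Subgroup.mem_center_iff.1 (hphi k) g]
    simp only [mul_assoc]
  have hφv : ∀ g, (φ g : G) = g * x * g⁻¹ * (x : G)⁻¹ := fun g => rfl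
  have hcommA : ∀ a ∈ A, ∀ b ∈ A, a * b = b * a := fun a ha b hb =>
    congrArg Subtype.val (IsMulCommutative.is_comm.comm (⟨a, ha⟩ : A) ⟨b, hb⟩)
  have hφA : ∀ g, φ g = 1 ↔ g ∈ A := by
    intro g
    refine ⟨fun h => hsc g fun a ha => ?_, fun hg => Subtype.ext ?_⟩
    · obtain ⟨i, z, hz, haz⟩ := hdec ⟨a, ha⟩
      have h1 : Commute g (x : G) := by
        have h' := congrArg Subtype.val h
        rw [hφv, OneMemClass.coe_one, mul_inv_eq_one] at h'
        exact mul_inv_eq_iff_eq_mul.1 h'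
      rw [show a = (x : G) ^ i * z from congrArg Subtype.val haz]
      exact ((h1.zpow_right i).mul_right (Subgroup.mem_center_iff.1 hz g)).eq
    · rw [hφv, hcommA g hg x x.2]
      simp
  have hφp : ∀ g, φ g ^ p = 1 := fun g => by
    rw [← map_pow, hφA]
    exact pow_prime_mem hp hdeg A hsc hq g
  -- the centre has index `p` in `A`
  have hcard : c.range = Subgroup.zpowers (c x) := by
    refine le_antisymm ?_ (Subgroup.zpowers_le.2 ⟨x, rfl⟩)
    rintro _ ⟨a, rfl⟩
    obtain ⟨i, z, hz, rfl⟩ := hdec a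
    rw [map_mul, (hcker z).2 hz, mul_one, map_zpow]
    exact Subgroup.zpow_mem_zpowers _ _
  have hZidx : Z.index = p * A.index := by
    rw [← Subgroup.relIndex_mul_index hZA, Subgroup.relIndex,
      show Z.subgroupOf A = c.ker from Subgroup.ext fun a => (hcker a).symm,
      Subgroup.index_ker, hcard, Nat.card_zpowers, hord]
  obtain ⟨m, hm⟩ := IsPGroup.iff_card.1 hq
  rw [← Subgroup.index_eq_card] at hm
  by_cases hm2 : m ≤ 2
  · interval_cases m
    · exact absurd (Subgroup.index_eq_one.1 (by simpa using hm)) hA1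
    · exact absurd (by simpa using hm) hA2
    · exact Or.inr (by rw [hZidx, hm]; ring)
  refine Or.inl ?_
  -- any two elements miss something
  have hbig : ∀ g h : G, ∃ k : G, ∀ i j : ℤ, φ k ≠ φ g ^ i * φ h ^ j := by
    intro g h
    by_contra hcon
    push Not at hcon
    have hsurj : Function.Surjective
        (fun ij : Fin p × Fin p => ((g ^ (ij.1 : ℕ) * h ^ (ij.2 : ℕ) : G) : G ⧸ A)) := by
      intro q
      obtain ⟨k, rfl⟩ := QuotientGroup.mk_surjective q
      obtain ⟨i, j, hij⟩ := hcon k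
      have hp0 : (p : ℤ) ≠ 0 := Int.natCast_ne_zero.2 hp.ne_zero
      have hred : ∀ (y : G) (n : ℤ), φ y ^ n = φ y ^ ((n % p).toNat) := fun y n => by
        rw [← zpow_natCast, Int.toNat_of_nonneg (Int.emod_nonneg n hp0)]
        exact zpow_eq_zpow_emod' n (hφp y)
      refine ⟨(⟨(i % p).toNat, ?_⟩, ⟨(j % p).toNat, ?_⟩), ?_⟩
      · exact (Int.toNat_lt (Int.emod_nonneg i hp0)).2 (Int.emod_lt_of_pos i (by exact_mod_cast hp.pos))
      · exact (Int.toNat_lt (Int.emod_nonneg j hp0)).2 (Int.emod_lt_of_pos j (by exact_mod_cast hp.pos))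
      · rw [QuotientGroup.eq, ← hφA, map_mul, map_inv, inv_mul_eq_one, map_mul, map_pow, map_pow,
          ← hred, ← hred, ← hij]
    have hle := Nat.card_le_card_of_surjective _ hsurj
    rw [← Subgroup.index_eq_card, Nat.card_prod, Nat.card_fin, ← sq, hm] at hle
    exact hm2 ((Nat.pow_le_pow_iff_right hp.one_lt).1 hle)
  -- commutators are products of powers of displacements
  have hfix : ∀ (u : A →* ℂˣ) (g : G),
      g ∈ fixer A u ↔ u ⟨φ g, hZA (φ g).2⟩ = 1 := by
    intro u g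
    have e : (⟨g * x * g⁻¹, hA.conj_mem (x : G) x.2 g⟩ : A) = ⟨φ g, hZA (φ g).2⟩ * x :=
      Subtype.ext (by simp [hφv])
    refine ⟨fun h => ?_, fun h => MonoidHom.ext fun a => ?_⟩
    · have h1 := DFunLike.congr_fun ((mem_fixer A).1 h) x
      rw [conjAct_apply, e, map_mul] at h1
      exact mul_eq_right.1 h1
    · obtain ⟨i, z, hz, rfl⟩ := hdec a
      have h1 : conjAct A g u x = u x := by rw [conjAct_apply, e, map_mul, h, one_mul]
      have h2 : conjAct A g u z = u z := by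
        rw [conjAct_apply]
        exact congrArg u (Subtype.ext (by
          show g * (z : G) * g⁻¹ = z
          rw [Subgroup.mem_center_iff.1 hz g, mul_inv_cancel_right]))
      rw [map_mul, map_mul, map_zpow, map_zpow, h1, h2]
  have hS : ∀ g h : G, ∃ i j : ℤ, g * h * g⁻¹ * h⁻¹ = (φ g : G) ^ i * (φ h : G) ^ j := by
    intro g h
    obtain ⟨k, hk⟩ := hbig g h
    set cgh : A := ⟨_, commutator_mem hp hdeg A hsc hq g h⟩ with hcgh
    let φA : G → A := fun y => ⟨φ y, hZA (φ y).2⟩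
    let S : Subgroup A := Subgroup.closure {φA g, φA h}
    suffices hmem : cgh ∈ S by
      obtain ⟨i, j, hij⟩ := Subgroup.mem_closure_pair.1 hmem
      refine ⟨i, j, ?_⟩
      have := congrArg Subtype.val hij
      simp only [Subgroup.coe_mul, SubgroupClass.coe_zpow] at this
      exact this.symm
    by_contra hmem
    have hsep : ∀ a : A, a ∉ S → ∃ u : A →* ℂˣ, (∀ s ∈ S, u s = 1) ∧ u a ≠ 1 := by
      intro a ha
      obtain ⟨f, hf⟩ := CommGroup.exists_apply_ne_one_of_hasEnoughRootsOfUnity (A ⧸ S) ℂ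
        (a := QuotientGroup.mk' S a) fun e => ha ((QuotientGroup.eq_one_iff a).1 e)
      exact ⟨f.comp (QuotientGroup.mk' S), fun s hs => by
        rw [MonoidHom.comp_apply, show QuotientGroup.mk' S s = 1 from (QuotientGroup.eq_one_iff s).2 hs,
          map_one], hf⟩
    have hcrit : ∀ u : A →* ℂˣ, (∀ s ∈ S, u s = 1) → u (φA k) ≠ 1 → u cgh = 1 := fun u hu hne => by
      rcases fixer_cases hp hdeg A u with h' | ⟨-, h'⟩
      · exact absurd ((hfix u k).1 (h' ▸ Subgroup.mem_top k)) hne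
      · exact h' g ((hfix u g).2 (hu _ (Subgroup.subset_closure (Or.inl rfl))))
          h ((hfix u h).2 (hu _ (Subgroup.subset_closure (Or.inr rfl)))) _
    obtain ⟨u, huS, hu⟩ := hsep cgh hmem
    obtain ⟨w, hwS, hw⟩ := hsep (φA k) (fun hkS => by
      obtain ⟨i, j, hij⟩ := Subgroup.mem_closure_pair.1 hkS
      refine hk i j (Subtype.ext ?_)
      have := congrArg Subtype.val hij
      simp only [Subgroup.coe_mul, SubgroupClass.coe_zpow, φA] at this
      simpa using this.symm)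
    by_cases hu' : u (φA k) = 1
    · have h1 := hcrit (w * u) (fun s hs => by
        rw [MonoidHom.mul_apply, hwS s hs, huS s hs, one_mul]) (by
        rw [MonoidHom.mul_apply, hu', mul_one]; exact hw)
      rw [MonoidHom.mul_apply, hcrit w hwS hw, one_mul] at h1
      exact hu h1
    · exact hu (hcrit u huS hu')
  have hcom : ∀ g h : G, g * h * g⁻¹ * h⁻¹ ∈ Z := fun g h => by
    obtain ⟨i, j, hij⟩ := hS g h
    rw [hij]
    exact Z.mul_mem (Z.zpow_mem (φ g).2 i) (Z.zpow_mem (φ h).2 j)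
  let B : G → G →* Z := fun h => MonoidHom.mk' (fun g => ⟨g * h * g⁻¹ * h⁻¹, hcom g h⟩) fun g k => by
    refine Subtype.ext ?_
    show g * k * h * (g * k)⁻¹ * h⁻¹ = (g * h * g⁻¹ * h⁻¹) * (k * h * k⁻¹ * h⁻¹)
    rw [Subgroup.mem_center_iff.1 (hcom k h) (g * h * g⁻¹ * h⁻¹),
      show g * k * h * (g * k)⁻¹ * h⁻¹ = (g * (k * h * k⁻¹ * h⁻¹)) * h * g⁻¹ * h⁻¹ by group,
      Subgroup.mem_center_iff.1 (hcom k h) g]
    simp only [mul_assoc]
  have hBv : ∀ g h, (B h g : G) = g * h * g⁻¹ * h⁻¹ := fun g h => rfl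
  have hBx : ∀ g, B (x : G) g = φ g := fun g => rfl
  have hBsymm : ∀ g h, B g h = (B h g)⁻¹ := fun g h => Subtype.ext (by simp [hBv]; group)
  have hBxl : ∀ g, B g (x : G) = (φ g)⁻¹ := fun g => by rw [hBsymm, hBx]
  have hB1 : ∀ g, B g g = 1 := fun g => Subtype.ext (by simp [hBv])
  have hBz : ∀ (z : A) g, (z : G) ∈ Z → B g (z : G) = 1 := fun z g hz => Subtype.ext (by
    rw [hBv, ← Subgroup.mem_center_iff.1 hz g, mul_inv_cancel_right, mul_inv_cancel,
      OneMemClass.coe_one])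
  have hBA : ∀ g a, a ∈ A → ∃ i : ℤ, B g a = (φ g)⁻¹ ^ i := fun g a ha => by
    obtain ⟨i, z, hz, haz⟩ := hdec ⟨a, ha⟩
    refine ⟨i, ?_⟩
    rw [show a = (x : G) ^ i * z from congrArg Subtype.val haz, map_mul, map_zpow, hBxl,
      hBz z g hz, mul_one]
  have hSB : ∀ g h, ∃ i j : ℤ, B h g = φ g ^ i * φ h ^ j := fun g h => by
    obtain ⟨i, j, hij⟩ := hS g h
    exact ⟨i, j, Subtype.ext (by
      rw [hBv, hij]
      simp only [Subgroup.coe_mul, SubgroupClass.coe_zpow])⟩
  -- two independent commuting elements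
  obtain ⟨e₁, he₁⟩ := hbig 1 1
  have hφ1 : φ e₁ ≠ 1 := fun e => he₁ 0 0 (by rw [e]; simp)
  obtain ⟨e₂, he₂⟩ := hbig e₁ 1
  have h21 : φ e₂ ∉ Subgroup.zpowers (φ e₁) := by
    rintro ⟨i, hi⟩
    exact he₂ i 0 (by simpa using hi.symm)
  obtain ⟨f₁, f₂, hf1, hf2, hf12⟩ : ∃ f₁ f₂, φ f₁ = φ e₁ ∧ φ f₂ = φ e₂ ∧ B f₁ f₂ = 1 := by
    obtain ⟨a, b, hab⟩ := hSB e₁ e₂
    have hφx : φ (x : G) = 1 := (hφA _).2 x.2
    refine ⟨e₁ * (x : G) ^ b, e₂ * (x : G) ^ (-a), by rw [map_mul, map_zpow, hφx, one_zpow, mul_one],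
      by rw [map_mul, map_zpow, hφx, one_zpow, mul_one], ?_⟩
    have h1 : B e₂ (e₁ * (x : G) ^ b) = φ e₁ ^ a := by
      rw [map_mul, map_zpow, hBxl, hab, inv_zpow, mul_inv_cancel_right]
    rw [map_mul, map_zpow, hBxl, hBsymm, h1, map_mul, map_zpow, hφx, one_zpow, mul_one]
    simp
  rw [← hf1] at h21 hφ1
  rw [← hf2] at h21
  set K := (B f₁).ker with hK
  have hindep : ∀ {u : Z} {S : Subgroup Z} {n : ℤ}, u ^ p = 1 → u ∉ S → u ^ n ∈ S →
      (p : ℤ) ∣ n ∧ u ^ n = 1 := fun hu hnot hn => pow_eq_one_of_mem hp hu hnot hn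
  have hzp : ∀ {u : Z} {n : ℤ}, u ^ p = 1 → (p : ℤ) ∣ n → u ^ n = 1 := by
    rintro u n hu ⟨t, rfl⟩
    rw [zpow_mul, zpow_natCast, hu, one_zpow]
  have hrange : ∀ g, B f₁ g ∈ Subgroup.zpowers (φ f₁) := by
    intro g
    by_cases hg : φ g ∈ Subgroup.closure {φ f₁, φ f₂}
    · obtain ⟨i, j, hij⟩ := Subgroup.mem_closure_pair.1 hg
      have ha : g * (f₁ ^ i * f₂ ^ j)⁻¹ ∈ A := (hφA _).1 (by
        rw [map_mul, map_inv, map_mul, map_zpow, map_zpow, hij, mul_inv_cancel])
      obtain ⟨n, hn⟩ := hBA f₁ _ ha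
      rw [show g = g * (f₁ ^ i * f₂ ^ j)⁻¹ * (f₁ ^ i * f₂ ^ j) by group, map_mul, hn, map_mul,
        map_zpow, map_zpow, hB1, hf12, one_zpow, one_zpow, one_mul, mul_one]
      exact zpow_mem (inv_mem (Subgroup.mem_zpowers _)) n
    · obtain ⟨b, a, hba⟩ := hSB g f₁
      obtain ⟨i, j, hij⟩ := hSB (g * f₂) f₁
      rw [map_mul, hf12, mul_one, hba, map_mul] at hij
      have h1 : φ g ^ (b - i) = φ f₂ ^ i * φ f₁ ^ (j - a) := rearr (W := Z) hij
      have h2 := hindep (hφp g) hg (n := b - i) (by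
        rw [h1]
        exact Subgroup.mul_mem _ (Subgroup.zpow_mem _ (Subgroup.subset_closure (by simp)) _)
          (Subgroup.zpow_mem _ (Subgroup.subset_closure (by simp)) _))
      rw [h2.2] at h1
      have h3 := hindep (hφp f₂) h21 (n := i) (by
        rw [eq_inv_of_mul_eq_one_left h1.symm]
        exact inv_mem (zpow_mem (Subgroup.mem_zpowers _) _))
      have h4 : φ g ^ b = 1 := by
        rw [show b = (b - i) + i by ring, zpow_add, h2.2, hzp (hφp g) h3.1, one_mul]
      rw [hba, h4, one_mul]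
      exact Subgroup.zpow_mem_zpowers _ _
  have hKidx : K.index = p := by
    rw [hK, Subgroup.index_ker]
    have : (B f₁).range = Subgroup.zpowers (φ f₁) := by
      refine le_antisymm ?_ (Subgroup.zpowers_le.2 ⟨(x : G)⁻¹, by rw [map_inv, hBxl, inv_inv]⟩)
      rintro _ ⟨g, rfl⟩
      exact hrange g
    rw [this, Nat.card_zpowers, orderOf_eq_prime (hφp f₁) hφ1]
  have hKA : ∀ a ∈ K, a ∈ A → ∀ g, Commute a g := by
    intro a haK ha g
    obtain ⟨n, z, hz, haz⟩ := hdec ⟨a, ha⟩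
    have haz' : a = (x : G) ^ n * z := congrArg Subtype.val haz
    have h1 : (φ f₁) ^ (-n) = 1 := by
      have h2 : B f₁ a = 1 := haK
      rw [haz', map_mul, map_zpow, hBxl, hBz z f₁ hz, mul_one, inv_zpow'] at h2
      exact h2
    have hpn := (hindep (hφp f₁) (S := ⊥) (fun e => hφ1 (Subgroup.mem_bot.1 e))
      (n := -n) (Subgroup.mem_bot.2 h1)).1
    have hcen : (⟨a, ha⟩ : A) = x ^ n * z := haz
    have hca : c ⟨a, ha⟩ = 1 := by
      obtain ⟨t, ht⟩ := (Int.dvd_neg.1 hpn)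
      rw [hcen, map_mul, (hcker z).2 hz, mul_one, map_zpow, ht, zpow_mul, zpow_natCast, hcpow,
        one_zpow]
    exact (Subgroup.mem_center_iff.1 ((hcker _).1 hca) g).symm
  have hf1K : f₁ ∈ K := hB1 f₁
  refine ⟨K, inferInstance, fun g hg h hh => ?_, hKidx⟩
  have hgoal : B h g = 1 → g * h = h * g := fun e => by
    have e' := congrArg Subtype.val e
    rw [hBv, OneMemClass.coe_one, mul_inv_eq_one] at e'
    exact mul_inv_eq_iff_eq_mul.1 e'
  by_cases hh' : φ h ∈ Subgroup.zpowers (φ f₁)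
  · obtain ⟨i, hi⟩ := hh'
    have ha : h * (f₁ ^ i)⁻¹ ∈ A := (hφA _).1 (by
      rw [map_mul, map_inv, map_zpow, show φ f₁ ^ i = φ h from hi, mul_inv_cancel])
    have haK : h * (f₁ ^ i)⁻¹ ∈ K := K.mul_mem hh (K.inv_mem (K.zpow_mem hf1K i))
    have hgf : Commute g f₁ := by
      have e' := congrArg Subtype.val (show B f₁ g = 1 from hg)
      rw [hBv, OneMemClass.coe_one, mul_inv_eq_one] at e'
      exact mul_inv_eq_iff_eq_mul.1 e'
    have h2 := (((hKA _ haK ha g).symm).mul_right (hgf.zpow_right i)).eq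
    rwa [inv_mul_cancel_right] at h2
  by_cases hg' : φ g ∈ Subgroup.closure {φ f₁, φ h}
  · obtain ⟨i, j, hij⟩ := Subgroup.mem_closure_pair.1 hg'
    have ha : g * (f₁ ^ i * h ^ j)⁻¹ ∈ A := (hφA _).1 (by
      rw [map_mul, map_inv, map_mul, map_zpow, map_zpow, hij, mul_inv_cancel])
    have haK : g * (f₁ ^ i * h ^ j)⁻¹ ∈ K :=
      K.mul_mem hg (K.inv_mem (K.mul_mem (K.zpow_mem hf1K i) (K.zpow_mem hh j)))
    have hfh : Commute f₁ h := by
      have e' := congrArg Subtype.val (show B f₁ h = 1 from hh)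
      rw [hBv, OneMemClass.coe_one, mul_inv_eq_one] at e'
      exact (mul_inv_eq_iff_eq_mul.1 e').symm
    have h2 := ((hKA _ haK ha h).mul_left
      ((hfh.zpow_left i).mul_left ((Commute.refl h).zpow_left j))).eq
    rwa [inv_mul_cancel_right] at h2
  · refine hgoal ?_
    have hfh' : φ f₁ ∉ Subgroup.zpowers (φ h) := by
      rintro ⟨i, hi⟩
      simp only at hi
      refine hh' ?_
      by_contra hne
      have := hindep (hφp h) hne (n := i) (by rw [hi]; exact Subgroup.mem_zpowers _)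
      exact hφ1 (hi.symm.trans this.2)
    obtain ⟨a, b, hab⟩ := hSB g h
    have hBf : B h f₁ = 1 := by rw [hBsymm, show B f₁ h = 1 from hh, inv_one]
    obtain ⟨i, j, hij⟩ := hSB (g * f₁) h
    rw [map_mul, hBf, mul_one, hab, map_mul] at hij
    have h1 : φ g ^ (a - i) = φ f₁ ^ i * φ h ^ (j - b) := rearr (W := Z) hij
    have h2 := hindep (hφp g) hg' (n := a - i) (by
      rw [h1]
      exact Subgroup.mul_mem _ (Subgroup.zpow_mem _ (Subgroup.subset_closure (by simp)) _)
          (Subgroup.zpow_mem _ (Subgroup.subset_closure (by simp)) _))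
    rw [h2.2] at h1
    have h3 := hindep (hφp f₁) hfh' (n := i) (by
      rw [eq_inv_of_mul_eq_one_left h1.symm]
      exact inv_mem (zpow_mem (Subgroup.mem_zpowers _) _))
    have hga : φ g ^ a = 1 := by
      rw [show a = (a - i) + i by ring, zpow_add, h2.2, hzp (hφp g) h3.1, one_mul]
    rw [hga, one_mul] at hab
    rw [hab]
    obtain ⟨i', j', hij'⟩ := hSB g (h * f₁)
    have hBe : B (h * f₁) g = B h g := by
      rw [hBsymm (h * f₁) g, map_mul, hBsymm g f₁, show B f₁ g = 1 from hg, inv_one, mul_one,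
        ← hBsymm h g]
    rw [hBe, hab, map_mul] at hij'
    have h5 : φ g ^ (-i') = φ f₁ ^ j' * φ h ^ (j' - b) := rearr' (W := Z) hij'
    have h6 := hindep (hφp g) hg' (n := -i') (by
      rw [h5]
      exact Subgroup.mul_mem _ (Subgroup.zpow_mem _ (Subgroup.subset_closure (by simp)) _)
          (Subgroup.zpow_mem _ (Subgroup.subset_closure (by simp)) _))
    rw [h6.2] at h5
    have h7 := hindep (hφp f₁) hfh' (n := j') (by
      rw [eq_inv_of_mul_eq_one_left h5.symm]
      exact inv_mem (zpow_mem (Subgroup.mem_zpowers _) _))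
    rw [h7.2, one_mul] at h5
    rw [show b = j' - (j' - b) by ring, zpow_sub, ← h5, inv_one, mul_one, hzp (hφp h) h7.1]

end Setup

open CfsgLib.NilpotentLength in
/-- The forward direction. -/
theorem structure_of_degrees (hp : p.Prime) (hdeg : ∀ χ : IrrCharacter G,
    charDegree (χ : G → ℂ) = 1 ∨ charDegree (χ : G → ℂ) = p)
    (hG : ∃ a b : G, a * b ≠ b * a) :
    (∃ A : Subgroup G, A.Normal ∧ (∀ a ∈ A, ∀ b ∈ A, a * b = b * a) ∧ A.index = p) ∨
      (Subgroup.center G).index = p ^ 3 := by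
  classical
  haveI := Fact.mk hp
  obtain ⟨N, hN, hco, k, hk⟩ := Cfsg.Agent.S4456.result p hp fun χ h =>
    dvd_of_eq ((hdeg χ).resolve_left h).symm
  haveI := hN
  have hNab : ∀ a ∈ N, ∀ b ∈ N, a * b = b * a := fun a ha b hb => by
    refine congrArg Subtype.val
      (CfsgLib.ItoMichler.comm_of_degree_one (G := N) (fun θ => ?_) ⟨a, ha⟩ ⟨b, hb⟩)
    obtain ⟨χ, hχ⟩ := CfsgLib.ItoMichler.exists_degree_dvd N θ
    have h1 : charDegree (θ : N → ℂ) ∣ Nat.card N := irrDegree_dvd_card θ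
    rcases hdeg χ with h | h <;> rw [h] at hχ
    · exact Nat.dvd_one.1 hχ
    · exact Nat.eq_one_of_dvd_coprimes hco h1 hχ
  obtain ⟨A, hAmax⟩ := Set.Finite.exists_maximal
    (s := {A : Subgroup G | N ≤ A ∧ A.Normal ∧ ∀ a ∈ A, ∀ b ∈ A, a * b = b * a})
    (Set.toFinite _) ⟨N, le_rfl, hN, hNab⟩
  obtain ⟨⟨hNA, hA, hAab⟩, hmax⟩ := hAmax
  haveI := hA
  haveI : IsMulCommutative A := ⟨⟨fun a b => Subtype.ext (hAab a a.2 b b.2)⟩⟩
  have hq : IsPGroup p (G ⧸ A) := by
    have hd : A.index ∣ p ^ k := hk ▸ Subgroup.index_dvd_of_le hNA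
    obtain ⟨j, -, hj⟩ := (Nat.dvd_prime_pow hp).1 hd
    exact IsPGroup.of_card (n := j) (by rw [← Subgroup.index_eq_card]; exact hj)
  have hsc : ∀ g : G, (∀ a ∈ A, g * a = a * g) → g ∈ A := by
    by_contra hcon
    push Not at hcon
    obtain ⟨g, hg, hgA⟩ := hcon
    set C := Subgroup.centralizer (A : Set G)
    set π := QuotientGroup.mk' A
    have hCn : C.Normal := inferInstance
    haveI := hCn.map π (QuotientGroup.mk'_surjective A)
    have hne : C.map π ≠ ⊥ := fun e => hgA (by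
      rw [Subgroup.map_eq_bot_iff, QuotientGroup.ker_mk'] at e
      exact e (Subgroup.mem_centralizer_iff.2 fun a ha => (hg a ha).symm))
    obtain ⟨y, hy, hy1⟩ := Subgroup.bot_or_exists_ne_one _
      |>.resolve_left (CfsgLib.Chars17.PGalois.inf_center_ne_bot' hq (C.map π) hne)
    obtain ⟨⟨z, hz, rfl⟩, hyc⟩ := hy
    have hzA : z ∉ A := fun e => hy1 ((QuotientGroup.eq_one_iff z).2 e)
    set A' := A ⊔ Subgroup.zpowers z
    have hza : ∀ a ∈ A, Commute a z := fun a ha => Subgroup.mem_centralizer_iff.1 hz a ha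
    have hA'ab : ∀ a ∈ A', ∀ b ∈ A', a * b = b * a := by
      have h1 : A' ≤ Subgroup.centralizer (A' : Set G) := by
        have hAc : A ≤ Subgroup.centralizer (A' : Set G) := by
          rw [Subgroup.le_centralizer_iff]
          exact sup_le (fun a ha => Subgroup.mem_centralizer_iff.2 fun b hb => hAab b hb a ha)
            (Subgroup.zpowers_le.2 hz)
        refine sup_le hAc ?_
        rw [Subgroup.zpowers_le, Subgroup.mem_centralizer_iff]
        intro b hb
        obtain ⟨a, ha, w, hw, rfl⟩ := Subgroup.mem_sup_of_normal_left.1 hb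
        obtain ⟨i, rfl⟩ := Subgroup.mem_zpowers_iff.1 hw
        exact ((hza a ha).mul_left ((Commute.refl z).zpow_left i)).eq
      intro a ha b hb
      exact (Subgroup.mem_centralizer_iff.1 (h1 ha) b hb).symm
    have hA'n : A'.Normal := by
      have e : A' = (Subgroup.zpowers (π z)).comap π := by
        rw [← MonoidHom.map_zpowers, Subgroup.comap_map_eq, QuotientGroup.ker_mk', sup_comm]
      rw [e]
      haveI : (Subgroup.zpowers (π z)).Normal := ⟨fun y hy g => by
        rwa [(Subgroup.mem_center_iff.1 ((Subgroup.zpowers_le.2 hyc) hy) g), mul_inv_cancel_right]⟩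
      exact Subgroup.Normal.comap inferInstance π
    exact hzA (hmax ⟨hNA.trans le_sup_left, hA'n, hA'ab⟩ le_sup_left
      (Subgroup.mem_sup_right (Subgroup.mem_zpowers z)))
  by_cases h2 : A.index = p
  · exact Or.inl ⟨A, hA, hAab, h2⟩
  refine structure_of_index hp hdeg A hsc hq (fun e => ?_) h2
  obtain ⟨a, b, hab⟩ := hG
  exact hab (hAab a (e ▸ Subgroup.mem_top a) b (e ▸ Subgroup.mem_top b))

end CfsgLib.OnePrimeDegree
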